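import Mathlib
import Cfsg.Prelude.Def_LieTypeDatum
import Cfsg.Agent.H202.PspCent
import Cfsg.Agent.H966.PSpAut
import Cfsg.Agent.ClassicalGeometry.SympAutTwo
import Cfsg.Agent.ClassicalGeometry.SympAutExists
import Cfsg.Agent.LieClassical.SympCenter

/-!
# Automorphisms of `PSp` fixing the subfield subgroup (helper206)

* `mem_zpowers_of_fix` : an automorphism of a finite field fixing the fixed field of `σ` is a power of `σ`;
* `mem_range_Psi` : automorphisms of odd order, and all automorphisms unless `m = 2`, char two, are semisimilitudes;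
* `eq_frob_of_fix` : an automorphism fixing (the images of) the transvections with entries in the fixed field of `σ`
  is the standard field automorphism of a power of `σ`.
-/

set_option autoImplicit false

namespace Cfsg.Agent.H206.PspFix

open Cfsg
open scoped Matrix
open Cfsg.Agent.ClassicalGeometry.SympBasic Cfsg.Agent.ClassicalGeometry.SympAutSemi
  Cfsg.Agent.ClassicalGeometry.SympGamma Cfsg.Agent.ClassicalGeometry.SympAutExists
open Cfsg.Agent.ClassicalGeometry.SympSiegel (transv_smul transv_smul_vec)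

universe u

section Field

variable {F : Type*} [Field F]

/-- **Galois.** -/
theorem mem_zpowers_of_fix [Finite F] {σ τ : F ≃+* F} (h : ∀ a, σ a = a → τ a = a) :
    τ ∈ Subgroup.zpowers σ := by
  classical
  have : Finite (F ≃+* F) :=
    Finite.of_injective (fun e : F ≃+* F => (e : F → F)) (fun a b h => RingEquiv.ext (congrFun h))
  let G := Subgroup.zpowers σ
  have hfix : ∀ a : F, a ∈ FixedPoints.subfield G F → τ a = a := by
    intro a ha
    exact h a (ha ⟨σ, Subgroup.mem_zpowers σ⟩)
  let τ' : F ≃ₐ[FixedPoints.subfield G F] F := AlgEquiv.ofRingEquiv (f := τ) (fun a => hfix a a.2)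
  obtain ⟨g, hg⟩ := (FixedPoints.toAlgAut_bijective G F).2 τ'
  have : τ = (g : F ≃+* F) := by
    ext a
    have h1 := DFunLike.congr_fun hg a
    exact h1.symm
  rw [this]
  exact g.2

end Field

variable {F : Type u} [Field F] {m : ℕ}

/-- The standard field automorphisms, as a homomorphism to the semisimilitudes. -/
def frobHom (m : ℕ) (F : Type u) [Field F] : (F ≃+* F) →* semiSim m F where
  toFun σ := ⟨frobPerm m σ, σ, 1, one_ne_zero, isSemi_frobPerm σ⟩
  map_one' := Subtype.ext (by ext1 v; rfl)
  map_mul' σ τ := Subtype.ext (by ext1 v; rfl)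

/-- The standard field automorphisms of `PSp`. -/
noncomputable def phi (m : ℕ) (F : Type u) [Field F] : (F ≃+* F) →* MulAut (PSp m F) :=
  (Psi m F).comp (frobHom m F)

theorem phi_apply (σ : F ≃+* F) : phi m F σ = Psi m F ⟨frobPerm m σ, σ, 1, one_ne_zero, isSemi_frobPerm σ⟩ := rfl

theorem phi_injective (hm : 1 ≤ m) : Function.Injective (phi m F) := by
  rw [injective_iff_map_eq_one]
  intro σ hσ
  obtain ⟨a, ha⟩ := exists_scal_of_Psi_eq_one hm _ hσ
  have h2 := isSemi_frobPerm (m := m) σ
  have h3 : (frobHom m F σ).1 = frobPerm m σ := rfl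
  rw [← h3, ha] at h2
  exact (IsSemi.unique hm h2 (isSemi_scal a)).1

/-- Automorphisms fixing a transvection preserve transvections. -/
theorem pres_of_fix [Finite F] (hm : 2 ≤ m) {y : MulAut (PSp m F)} {e : Fin m ⊕ Fin m → F} (he : e ≠ 0)
    (hy : y (pr (transv e 1)) = pr (transv e 1)) : Pres y := by
  by_cases h : 3 ≤ m ∨ (2 : F) ≠ 0
  · exact ClassicalGeometry.SympAutOddA.recog hm h y
  · push Not at h
    intro w hw d hd
    obtain ⟨g, hg⟩ := ClassicalGeometry.SympAutTwo.transv_conj h.2 he hw one_ne_zero hd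
    obtain ⟨w', hw', e'⟩ := ClassicalGeometry.AutPSpCount.exists_conj_mk_transv (y (pr g)) he 1
    refine ⟨w', hw', 1, one_ne_zero, ?_⟩
    change _ = (QuotientGroup.mk (transv w' 1) : PSp m F)
    rw [← e', ← hg, pr_mul, pr_mul, pr_inv, map_mul, map_mul, map_inv, hy]
    rfl

theorem transv_cancel {e : Fin m ⊕ Fin m → F} (he : e ≠ 0) {c d : F} (h : transv e c = transv e d) : c = d := by
  by_contra hne
  have h1 : transv e (c - d) = 1 := by
    have h2 : transv e c = transv e (c - d) * transv e d := by
      rw [ClassicalGeometry.SympSiegel.transv_mul, sub_add_cancel]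
    rw [h] at h2
    exact (right_eq_mul.1 h2)
  exact transv_ne_one he (sub_ne_zero.2 hne) h1

theorem eq_frob_of_fix [Finite F] (hm : 2 ≤ m) {σ : F ≃+* F} {y : MulAut (PSp m F)}
    (hy : ∀ v : Fin m ⊕ Fin m → F, (∀ i, σ (v i) = v i) → ∀ c, σ c = c → y (pr (transv v c)) = pr (transv v c)) :
    y ∈ Subgroup.zpowers (phi m F σ) := by
  obtain ⟨p, hp⟩ := CharP.exists F
  have hpp : Fact p.Prime := ⟨CharP.char_is_prime F p⟩
  have hm1 : 1 ≤ m := by omega
  let i0 : Fin m ⊕ Fin m := Sum.inl ⟨0, hm1⟩
  have hsing : ∀ i : Fin m ⊕ Fin m, (Pi.single i 1 : Fin m ⊕ Fin m → F) ≠ 0 := by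
    intro i h0
    have := congrFun h0 i
    rw [Pi.single_eq_same] at this
    exact one_ne_zero this
  have hfixs : ∀ i k : Fin m ⊕ Fin m, σ ((Pi.single i 1 : Fin m ⊕ Fin m → F) k) = (Pi.single i 1 : Fin m ⊕ Fin m → F) k := by
    intro i k
    by_cases hk : k = i
    · subst hk; simp
    · rw [Pi.single_eq_of_ne hk, map_zero]
  have hP : Pres y := pres_of_fix hm (hsing i0) (hy _ (hfixs i0) 1 (map_one σ))
  obtain ⟨g, hg⟩ := exists_semi hm y hP
  obtain ⟨τ, l, hl, hs⟩ := g.2
  -- every vector over the fixed field is an eigenvector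
  have hg0 : g.1 0 = 0 := by
    have := hs.1 0 0
    rw [add_zero] at this
    exact left_eq_add.1 this
  have heig : ∀ v : Fin m ⊕ Fin m → F, v ≠ 0 → (∀ i, σ (v i) = v i) → ∃ a : F, g.1 v = a • v := by
    intro v hv hσv
    have h1 := hy v hσv 1 (map_one σ)
    rw [← hg] at h1
    have h2 : Psi m F g (pr (transv v 1)) = pr (transv (g.1 v) (τ 1 * l⁻¹)) := by
      change Psi m F g (QuotientGroup.mk (transv v 1)) = _
      rw [Psi_mk, conjHom_transv g hl hs]
      rfl
    rw [h2] at h1
    have h3 := eq_of_pr_eq p hm1 (transv_pow_char p _ _) (transv_pow_char p _ _) h1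
    exact transv_eq_transv hv one_ne_zero h3.symm
  choose! a ha using fun i => heig _ (hsing i) (hfixs i)
  have ha' : ∀ i, a i = a i0 := by
    intro i
    by_cases hi : i = i0
    · rw [hi]
    · obtain ⟨b, hb⟩ := heig (Pi.single i 1 + Pi.single i0 1) (by
          intro h0
          have := congrFun h0 i
          simp [Pi.single_eq_of_ne hi] at this) (by
          intro k
          rw [Pi.add_apply, map_add, hfixs, hfixs])
      rw [hs.1, ha, ha] at hb
      have h1 := congrFun hb i
      have h2 := congrFun hb i0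
      simp [Pi.single_eq_of_ne hi] at h1
      simp [Pi.single_eq_of_ne (Ne.symm hi)] at h2
      rw [h1, h2]
  have ha0 : a i0 ≠ 0 := by
    intro h0
    have h1 := ha i0
    rw [h0, zero_smul, ← hg0] at h1
    exact hsing i0 (g.1.injective h1)
  have hgv : ∀ v, g.1 v = a i0 • frobPerm m τ v := by
    intro v
    have h1 : v = ∑ i, v i • (Pi.single i 1 : Fin m ⊕ Fin m → F) := by
      funext j
      rw [Finset.sum_apply]
      simp [Pi.single_apply]
    have hsum : ∀ (s : Finset (Fin m ⊕ Fin m)) (w : Fin m ⊕ Fin m → (Fin m ⊕ Fin m → F)),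
        g.1 (∑ i ∈ s, w i) = ∑ i ∈ s, g.1 (w i) := by
      intro s w
      induction s using Finset.induction_on with
      | empty => simpa using hg0
      | insert i s hi ih => rw [Finset.sum_insert hi, Finset.sum_insert hi, hs.1, ih]
    have hsum' : g.1 v = ∑ i, τ (v i) • (a i0 • (Pi.single i 1 : Fin m ⊕ Fin m → F)) := by
      conv_lhs => rw [h1]
      rw [hsum]
      refine Finset.sum_congr rfl fun i _ => ?_
      rw [hs.2.1, ha, ha']
    rw [hsum']
    funext j
    rw [Finset.sum_apply, Pi.smul_apply, frobPerm_apply]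
    simp [Pi.single_apply, mul_comm]
  have hsm : scal m F (Units.mk0 _ ha0) ∈ semiSim m F :=
    ⟨RingEquiv.refl F, _, mul_ne_zero (Units.ne_zero _) (Units.ne_zero _), isSemi_scal _⟩
  have hg' : g = ⟨scal m F (Units.mk0 _ ha0), hsm⟩ * frobHom m F τ := by
    apply Subtype.ext
    ext1 v
    rw [hgv v]
    rfl
  have hyτ : y = phi m F τ := by
    rw [← hg, hg', map_mul, Psi_scal, one_mul]
    rfl
  have hτ : τ ∈ Subgroup.zpowers σ := by
    apply mem_zpowers_of_fix
    intro c hc
    have h1 := hy _ (hfixs i0) c hc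
    have h2 : y (pr (transv (Pi.single i0 1) c)) = pr (transv (Pi.single i0 1) (τ c)) := by
      rw [hyτ]
      change Psi m F (frobHom m F τ) (QuotientGroup.mk (transv (Pi.single i0 1) c)) = _
      rw [Psi_mk, conjHom_transv (frobHom m F τ) one_ne_zero (isSemi_frobPerm τ), inv_one, mul_one]
      have h3 : (frobHom m F τ).1 (Pi.single i0 1) = Pi.single i0 1 := by
        funext k
        change τ ((Pi.single i0 1 : Fin m ⊕ Fin m → F) k) = _
        by_cases hk : k = i0
        · subst hk; simp
        · rw [Pi.single_eq_of_ne hk, map_zero]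
      rw [h3]
      rfl
    rw [h1] at h2
    exact (transv_cancel (hsing i0) (eq_of_pr_eq p hm1 (transv_pow_char p _ _) (transv_pow_char p _ _) h2)).symm
  rw [hyτ]
  obtain ⟨k, hk⟩ := Subgroup.mem_zpowers_iff.1 hτ
  exact Subgroup.mem_zpowers_iff.2 ⟨k, by rw [← map_zpow, hk]⟩

/-- All automorphisms, or those of odd order if `m = 2` in characteristic two, come from semisimilitudes. -/
theorem mem_range_Psi [Finite F] (hm : 2 ≤ m) (hs : m = 2 → 3 ≤ Nat.card F) (x : MulAut (PSp m F))
    (hx : (3 ≤ m ∨ (2 : F) ≠ 0) ∨ Odd (orderOf x)) : ∃ g : semiSim m F, Psi m F g = x := by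
  by_cases h : 3 ≤ m ∨ (2 : F) ≠ 0
  · exact exists_semi hm x (ClassicalGeometry.SympAutOddA.recog hm h x)
  · have hodd := hx.resolve_left h
    push Not at h
    obtain rfl : m = 2 := by omega
    have hchar : CharP F 2 := CharTwo.of_one_ne_zero_of_two_eq_zero one_ne_zero h.2
    have ht : ∃ t : F, t ≠ 0 ∧ t ≠ 1 := by
      by_contra hcon
      push Not at hcon
      have h3 : Nat.card F ≤ 2 := by
        classical
        have : Fintype F := Fintype.ofFinite F
        rw [Nat.card_eq_fintype_card, ← Finset.card_univ]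
        have h4 : (Finset.univ : Finset F) ⊆ {0, 1} := by
          intro t _
          by_cases ht : t = 0
          · simp [ht]
          · simp [hcon t ht]
        exact (Finset.card_le_card h4).trans Finset.card_le_two
      have := hs rfl
      omega
    have h2 := ClassicalGeometry.SympAutTwo.index_two ht (fun α hα => exists_semi le_rfl α hα)
    obtain ⟨k, hk⟩ := hodd
    have h3 : x = (x ^ (k + 1)) * (x ^ (k + 1)) := by
      have h4 := pow_orderOf_eq_one x
      rw [hk] at h4
      rw [← pow_add, show k + 1 + (k + 1) = (2 * k + 1) + 1 by ring, pow_succ, h4, one_mul]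
    have h4 := Subgroup.mul_self_mem_of_index_two h2 (x ^ (k + 1))
    rw [← h3] at h4
    exact h4

end Cfsg.Agent.H206.PspFix
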