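import Mathlib
import Cfsg.Prelude.Def_Solvable

/-!
# `O_{p'}(C_A(x))` in an almost simple group (helper206)

`Good p x` : `x` an automorphism of `K` whose fixed point group contains a nontrivial subgroup `L`, normalised by
the fixed points, centralised in `Aut K` only by powers of `x`, and without nontrivial normal `p'`-subgroups if `p`
divides the number of fixed points of `x`.

`main` : if `x` has prime order `p` and is good, then `O_{p'}(C_A(x)) ≠ 1` iff `p` does not divide `|C_K(x)|`.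
-/

set_option autoImplicit false

namespace Cfsg.Agent.H206.Balance

open Cfsg

variable {K : Type*} [Group K]

/-- The fixed points of an automorphism. -/
abbrev Fx (x : MulAut K) : Subgroup K := MonoidHom.eqLocus x.toMonoidHom (MonoidHom.id K)

theorem mem_Fx {x : MulAut K} {k : K} : k ∈ Fx x ↔ x k = k := Iff.rfl

/-- The condition on `x` (see the module docstring). -/
def Good (p : ℕ) (x : MulAut K) : Prop :=
  ∃ L : Subgroup K, L ≠ ⊥ ∧ L ≤ Fx x ∧ (∀ c ∈ Fx x, ∀ k ∈ L, c * k * c⁻¹ ∈ L) ∧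
    (∀ y : MulAut K, (∀ k ∈ L, y k = k) → y ∈ Subgroup.zpowers x) ∧
    (p ∣ Nat.card (Fx x) → ∀ M : Subgroup K, M ≤ L → (∀ k ∈ L, ∀ a ∈ M, k * a * k⁻¹ ∈ M) →
      (Nat.card M).Coprime p → M = ⊥)

theorem conj_apply (α x : MulAut K) (k : K) : (α * x * α⁻¹) (α k) = α (x k) := by
  rw [MulAut.mul_apply, MulAut.mul_apply, MulAut.inv_apply_self]

theorem Fx_conj (α x : MulAut K) : Fx (α * x * α⁻¹) = (Fx x).map α.toMonoidHom := by
  ext k
  obtain ⟨k, rfl⟩ := α.surjective k
  rw [mem_Fx, conj_apply, α.injective.eq_iff, Subgroup.mem_map]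
  constructor
  · intro h
    exact ⟨k, h, rfl⟩
  · rintro ⟨k', h, h'⟩
    have : k' = k := α.injective h'
    rw [← this]
    exact h

theorem card_Fx_conj (α x : MulAut K) : Nat.card (Fx (α * x * α⁻¹)) = Nat.card (Fx x) := by
  rw [Fx_conj]
  exact (Nat.card_congr ((Fx x).equivMapOfInjective α.toMonoidHom α.injective).toEquiv).symm

theorem Good.conj {p : ℕ} {x : MulAut K} (h : Good p x) (α : MulAut K) : Good p (α * x * α⁻¹) := by
  obtain ⟨L, h1, h2, h3, h4, h5⟩ := h
  refine ⟨L.map α.toMonoidHom, ?_, ?_, ?_, ?_, ?_⟩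
  · intro h0
    exact h1 ((Subgroup.map_eq_bot_iff_of_injective _ α.injective).1 h0)
  · rw [Fx_conj]
    exact Subgroup.map_mono h2
  · rw [Fx_conj]
    rintro _ ⟨c, hc, rfl⟩ _ ⟨k, hk, rfl⟩
    exact ⟨c * k * c⁻¹, h3 c hc k hk, by simp⟩
  · intro y hy
    have h6 : α⁻¹ * y * α ∈ Subgroup.zpowers x := by
      apply h4
      intro k hk
      rw [MulAut.mul_apply, MulAut.mul_apply]
      have h7 : y (α k) = α k := hy _ ⟨k, hk, rfl⟩
      rw [h7, MulAut.inv_apply_self]
    obtain ⟨n, hn⟩ := Subgroup.mem_zpowers_iff.1 h6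
    refine Subgroup.mem_zpowers_iff.2 ⟨n, ?_⟩
    rw [conj_zpow, hn]
    group
  · rw [card_Fx_conj]
    intro hp M hM hMn hMc
    have h6 := h5 hp (M.comap α.toMonoidHom) (by
        intro k hk
        obtain ⟨k', hk', h7⟩ := hM hk
        have : k' = k := α.injective h7
        rw [← this]
        exact hk') (by
        intro k hk a ha
        rw [Subgroup.mem_comap]
        have h8 := hMn (α k) ⟨k, hk, rfl⟩ (α a) ha
        simpa using h8) (by
        have h9 : Nat.card (M.comap α.toMonoidHom) = Nat.card M :=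
          Nat.card_congr ((α.toEquiv.subtypeEquiv fun a => Iff.rfl))
        rw [h9]
        exact hMc)
    rw [eq_bot_iff]
    intro k hk
    obtain ⟨k, rfl⟩ := α.surjective k
    have h10 : k ∈ M.comap α.toMonoidHom := hk
    rw [h6, Subgroup.mem_bot] at h10
    rw [h10, map_one]
    exact one_mem _

/-- Inner automorphisms and automorphisms. -/
theorem mul_conj_mul_inv (y : MulAut K) (k : K) : y * MulAut.conj k * y⁻¹ = MulAut.conj (y k) := by
  ext a
  obtain ⟨a, rfl⟩ := y.surjective a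
  rw [conj_apply]
  simp

theorem conj_injective (hZ : Subgroup.center K = ⊥) : Function.Injective (MulAut.conj : K →* MulAut K) := by
  rw [injective_iff_map_eq_one]
  intro k hk
  have : k ∈ Subgroup.center K := by
    rw [Subgroup.mem_center_iff]
    intro g
    have h := DFunLike.congr_fun hk g
    rw [MulAut.conj_apply, MulAut.one_apply] at h
    exact (mul_inv_eq_iff_eq_mul.1 h).symm
  rw [hZ, Subgroup.mem_bot] at this
  exact this

theorem conj_mem {A : Subgroup (MulAut K)} (hinn : ∀ k : K, MulAut.conj k ∈ A) {x : MulAut K} {k : K}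
    (hk : k ∈ Fx x) : MulAut.conj k ∈ A ⊓ Subgroup.centralizer {x} := by
  refine Subgroup.mem_inf.2 ⟨hinn k, ?_⟩
  rw [Subgroup.mem_centralizer_singleton_iff]
  have h := mul_conj_mul_inv x k
  rw [mem_Fx.1 hk] at h
  exact (mul_inv_eq_iff_eq_mul.1 h).symm

theorem apply_mem_Fx {A : Subgroup (MulAut K)} {x y : MulAut K} (hy : y ∈ A ⊓ Subgroup.centralizer {x}) {k : K}
    (hk : k ∈ Fx x) : y k ∈ Fx x := by
  have h := Subgroup.mem_centralizer_singleton_iff.1 hy.2
  rw [mem_Fx] at hk ⊢
  have h1 := DFunLike.congr_fun h k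
  rw [MulAut.mul_apply, MulAut.mul_apply, hk] at h1
  exact h1.symm

/-- An element of a `p'`-subgroup which is a power of an element of order `p` is trivial. -/
theorem eq_one_of_mem_zpowers {G : Type*} [Group G] {p : ℕ} {x y : G} (hord : orderOf x = p)
    (hy : y ∈ Subgroup.zpowers x) (hc : (orderOf y).Coprime p) : y = 1 := by
  have h1 : orderOf y ∣ p := by
    rw [← hord]
    exact orderOf_dvd_of_mem_zpowers hy
  rw [← orderOf_eq_one_iff]
  exact Nat.eq_one_of_dvd_coprimes hc dvd_rfl h1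

/-- **`O_{p'}(C_A(x)) ≠ 1` iff `p ∤ |C_K(x)|`**, for `x` good of order `p`. -/
theorem main [Finite K] (hZ : Subgroup.center K = ⊥) {p : ℕ} [Fact p.Prime] {A : Subgroup (MulAut K)}
    (hinn : ∀ k : K, MulAut.conj k ∈ A) {x : MulAut K} (hord : orderOf x = p) (hx : Good p x) :
    pPrimeCore p ↥(A ⊓ Subgroup.centralizer {x}) ≠ ⊥ ↔ Nat.Coprime p (Nat.card (Fx x)) := by
  obtain ⟨L, h1, h2, h3, h4, h5⟩ := hx
  have hinj := conj_injective hZ
  have hp : p.Prime := Fact.out
  constructor
  · intro hne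
    by_contra hcop
    have hdvd : p ∣ Nat.card (Fx x) := by
      by_contra hnd
      exact hcop ((Nat.Prime.coprime_iff_not_dvd hp).2 hnd)
    apply hne
    unfold pPrimeCore
    rw [sSup_eq_bot]
    rintro N ⟨hN, hNc⟩
    -- orders of elements of `N`
    have hNo : ∀ y ∈ N, (orderOf (y : MulAut K)).Coprime p := by
      intro y hy
      have h6 : orderOf (y : MulAut K) ∣ Nat.card N := by
        have h7 : orderOf (⟨y, hy⟩ : N) = orderOf (y : MulAut K) := by
          rw [Subgroup.orderOf_coe, ← Subgroup.orderOf_mk _ hy]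
        rw [← h7]
        exact orderOf_dvd_natCard _
      exact Nat.Coprime.coprime_dvd_left h6 hNc
    -- the fixed points in `N`
    let M' : Subgroup K := Fx x ⊓ (N.map (Subgroup.subtype _)).comap (MulAut.conj : K →* MulAut K)
    have hM' : ∀ k, k ∈ M' ↔ k ∈ Fx x ∧ ∃ y ∈ N, (y : MulAut K) = MulAut.conj k := fun k => Iff.rfl
    have hM'n : ∀ c ∈ Fx x, ∀ a ∈ M', c * a * c⁻¹ ∈ M' := by
      intro c hc a ha
      obtain ⟨ha1, y, hy, hya⟩ := (hM' a).1 ha
      refine (hM' _).2 ⟨mul_mem (mul_mem hc ha1) (inv_mem hc), ?_⟩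
      refine ⟨⟨MulAut.conj c, conj_mem hinn hc⟩ * y * ⟨MulAut.conj c, conj_mem hinn hc⟩⁻¹, hN.conj_mem _ hy _, ?_⟩
      simp [hya]
    have hM'o : ∀ a ∈ M', (orderOf a).Coprime p := by
      intro a ha
      obtain ⟨ha1, y, hy, hya⟩ := (hM' a).1 ha
      have h6 := hNo y hy
      rwa [hya, orderOf_injective _ hinj] at h6
    have hcardM : (Nat.card M').Coprime p := by
      have h6 : Nat.card M' ∣ Nat.card N := by
        have h7 : Nat.card (M'.map (MulAut.conj : K →* MulAut K)) = Nat.card M' :=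
          (Nat.card_congr (M'.equivMapOfInjective _ hinj).toEquiv).symm
        have h8 : Nat.card (N.map (Subgroup.subtype _)) = Nat.card N :=
          (Nat.card_congr (N.equivMapOfInjective _ (Subgroup.subtype_injective _)).toEquiv).symm
        rw [← h7, ← h8]
        apply Subgroup.card_dvd_of_le
        rintro _ ⟨a, ha, rfl⟩
        exact ha.2
      exact Nat.Coprime.coprime_dvd_left h6 hNc
    have hML : M' ⊓ L = ⊥ := by
      apply h5 hdvd _ inf_le_right
      · intro k hk a ha
        exact Subgroup.mem_inf.2 ⟨hM'n k (h2 hk) a ha.1, mul_mem (mul_mem hk (Subgroup.mem_inf.1 ha).2) (inv_mem hk)⟩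
      · exact Nat.Coprime.coprime_dvd_left (Subgroup.card_dvd_of_le inf_le_left) hcardM
    have hM'1 : ∀ a ∈ M', a = 1 := by
      intro a ha
      have h6 : MulAut.conj a ∈ Subgroup.zpowers x := by
        apply h4
        intro k hk
        have h7 : a * k * a⁻¹ * k⁻¹ ∈ M' ⊓ L := by
          refine Subgroup.mem_inf.2 ⟨?_, ?_⟩
          · have h8 : a * k * a⁻¹ * k⁻¹ = a * (k * a⁻¹ * k⁻¹) := by group
            rw [h8]
            exact mul_mem ha (hM'n k (h2 hk) _ (inv_mem ha))
          · exact mul_mem (h3 a ((hM' a).1 ha).1 k hk) (inv_mem hk)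
        rw [hML, Subgroup.mem_bot] at h7
        rw [MulAut.conj_apply]
        exact mul_inv_eq_one.1 h7
      have h7 := eq_one_of_mem_zpowers hord h6 (by rw [orderOf_injective _ hinj]; exact hM'o a ha)
      exact hinj (h7.trans (map_one _).symm)
    rw [eq_bot_iff]
    intro y hy
    rw [Subgroup.mem_bot]
    apply Subtype.ext
    refine eq_one_of_mem_zpowers hord ?_ (hNo y hy)
    apply h4
    intro k hk
    have hk' := h2 hk
    have h6 : k * ((y : MulAut K) k)⁻¹ ∈ M' := by
      refine (hM' _).2 ⟨mul_mem hk' (inv_mem (apply_mem_Fx y.2 hk')), ?_⟩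
      let ck : ↥(A ⊓ Subgroup.centralizer {x}) := ⟨MulAut.conj k, conj_mem hinn hk'⟩
      have h10 : ck * y * ck⁻¹ ∈ N := hN.conj_mem _ hy ck
      have h11 : ck * y * ck⁻¹ * y⁻¹ ∈ N := N.mul_mem h10 (N.inv_mem hy)
      have h12 : ((y : MulAut K) * MulAut.conj k * (y : MulAut K)⁻¹) = MulAut.conj ((y : MulAut K) k) :=
        mul_conj_mul_inv _ _
      have h9 : ((ck * y * ck⁻¹ * y⁻¹ : ↥(A ⊓ Subgroup.centralizer {x})) : MulAut K) =
          MulAut.conj k * (y : MulAut K) * (MulAut.conj k)⁻¹ * (y : MulAut K)⁻¹ := rfl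
      refine ⟨_, h11, ?_⟩
      rw [h9, map_mul, map_inv, ← h12]
      simp only [mul_inv_rev, inv_inv, mul_assoc]
    exact (mul_inv_eq_one.1 (hM'1 _ h6)).symm
  · intro hcop hbot
    apply h1
    rw [eq_bot_iff]
    intro k hk
    let N : Subgroup ↥(A ⊓ Subgroup.centralizer {x}) :=
      ((Fx x).map (MulAut.conj : K →* MulAut K)).comap (Subgroup.subtype _)
    have hN : N.Normal := by
      refine ⟨?_⟩
      rintro y ⟨c, hc, hcy⟩ g
      refine ⟨(g : MulAut K) c, apply_mem_Fx g.2 hc, ?_⟩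
      rw [← mul_conj_mul_inv, hcy]
      rfl
    have hNc : (Nat.card N).Coprime p := by
      have h6 : Nat.card N ∣ Nat.card (Fx x) := by
        have h7 : Nat.card ((Fx x).map (MulAut.conj : K →* MulAut K)) = Nat.card (Fx x) :=
          (Nat.card_congr ((Fx x).equivMapOfInjective _ hinj).toEquiv).symm
        rw [← h7]
        exact Subgroup.card_comap_dvd_of_injective _ _ (Subgroup.subtype_injective _)
      exact (Nat.Coprime.coprime_dvd_left h6 hcop.symm)
    have h6 : N ≤ pPrimeCore p ↥(A ⊓ Subgroup.centralizer {x}) := le_sSup ⟨hN, hNc⟩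
    rw [hbot] at h6
    have h7 : (⟨MulAut.conj k, conj_mem hinn (h2 hk)⟩ : ↥(A ⊓ Subgroup.centralizer {x})) ∈ N :=
      ⟨k, h2 hk, rfl⟩
    have h8 := h6 h7
    rw [Subgroup.mem_bot] at h8 ⊢
    exact hinj ((congrArg Subtype.val h8).trans (map_one _).symm)

end Cfsg.Agent.H206.Balance
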