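import Cfsg.Agent.H206.LowPlus
import Cfsg.Agent.H376.SpEmb

/-!
# Element orders of `PSp₆(q)`, `q` even (helper206; task L9)
-/

set_option autoImplicit false
set_option linter.unusedSectionVars false
set_option linter.style.haveILetI false

namespace Cfsg.Agent.H206.LowSp

open Cfsg Matrix
open Cfsg.Agent.H376

abbrev I6 := Fin 3 ⊕ Fin 3

def ix : I6 → ℕ
  | .inl i => i.1
  | .inr i => 3 + i.1

def lit (l : List (List ℕ)) : Matrix I6 I6 (ZMod 2) :=
  Matrix.of fun i j => (((l.getD (ix i) []).getD (ix j) 0 : ℕ) : ZMod 2)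

def u1 : Matrix I6 I6 (ZMod 2) := lit [[1, 1, 0, 0, 0, 0], [0, 1, 1, 0, 0, 1], [0, 0, 1, 0, 0, 1], [0, 0, 0, 1, 0, 0], [0, 0, 0, 1, 1, 0], [0, 0, 0, 1, 1, 1]]
def u2 : Matrix I6 I6 (ZMod 2) := lit [[1, 0, 1, 0, 0, 1], [0, 1, 0, 1, 1, 1], [0, 0, 1, 1, 1, 0], [0, 0, 0, 1, 0, 0], [0, 0, 0, 0, 1, 0], [0, 0, 0, 1, 0, 1]]
def u4 : Matrix I6 I6 (ZMod 2) := lit [[1, 0, 0, 0, 1, 0], [0, 1, 0, 1, 0, 0], [0, 0, 1, 0, 0, 0], [0, 0, 0, 1, 0, 0], [0, 0, 0, 0, 1, 0], [0, 0, 0, 0, 0, 1]]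

theorem u_symp : u1 * J (Fin 3) (ZMod 2) * u1ᵀ = J (Fin 3) (ZMod 2) := by decide +kernel
theorem u_two : u1 * u1 = u2 := by decide +kernel
theorem u_four : u2 * u2 = u4 := by decide +kernel
theorem u_eight : u4 * u4 = 1 := by decide +kernel
theorem u4_ne : u4 ≠ 1 := by decide +kernel

theorem J_map {R S : Type*} [CommRing R] [CommRing S] (φ : R →+* S) :
    (J (Fin 3) R).map φ = J (Fin 3) S := by
  ext i j
  rcases i with i | i <;> rcases j with j | j <;>
    simp [J, Matrix.map_apply, Matrix.one_apply]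

section

variable {F : Type*} [Field F]

/-- the unipotent matrix over `F` -/
noncomputable def gM [CharP F 2] : Matrix I6 I6 F := u1.map (ZMod.castHom (dvd_refl 2) F)

theorem gM_mem [CharP F 2] : (gM : Matrix I6 I6 F) ∈ symplecticGroup (Fin 3) F := by
  rw [SymplecticGroup.mem_iff]
  have h := congrArg (fun A => Matrix.map A (ZMod.castHom (dvd_refl 2) F)) u_symp
  simp only [Matrix.map_mul, J_map] at h
  exact h

theorem gM_pow [CharP F 2] (k : ℕ) : (gM : Matrix I6 I6 F) ^ k = 1 ↔ u1 ^ k = 1 := by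
  have h1 : (gM : Matrix I6 I6 F) ^ k = (u1 ^ k).map (ZMod.castHom (dvd_refl 2) F) :=
    (map_pow (RingHom.mapMatrix (ZMod.castHom (dvd_refl 2) F)) u1 k).symm
  rw [h1]
  constructor
  · intro h
    ext i j
    apply ZMod.castHom_injective F
    have := congrFun (congrFun h i) j
    rw [Matrix.map_apply] at this
    rw [this, Matrix.one_apply, Matrix.one_apply]
    split_ifs <;> simp
  · intro h
    rw [h]
    exact Matrix.map_one _ (map_zero _) (map_one _)

theorem exists_eight [CharP F 2] : ∃ A : symplecticGroup (Fin 3) F, orderOf A = 8 := by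
  haveI : Fact (Nat.Prime 2) := ⟨Nat.prime_two⟩
  refine ⟨⟨gM, gM_mem⟩, ?_⟩
  have key : ∀ k : ℕ, (⟨gM, gM_mem⟩ : symplecticGroup (Fin 3) F) ^ k = 1 ↔ u1 ^ k = 1 := by
    intro k
    rw [← gM_pow (F := F), Subtype.ext_iff]
    rfl
  have h4 : u1 ^ 4 = u4 := RegUni.pow_four' u_two u_four
  have h := orderOf_eq_prime_pow (p := 2) (n := 2) (x := (⟨gM, gM_mem⟩ : symplecticGroup (Fin 3) F))
    (by
      rw [key]
      change ¬ u1 ^ 4 = 1
      rw [h4]
      exact u4_ne)
    (by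
      rw [key]
      change u1 ^ 8 = 1
      have h8 : u1 ^ 8 = u1 ^ 4 * u1 ^ 4 := pow_add _ 4 4
      rw [h8, h4, u_eight])
  exact h

/-- in characteristic two the order is kept in `PSp` -/
theorem exists_PSp [CharP F 2] {n N : ℕ} (h : ∃ A : symplecticGroup (Fin n) F, orderOf A = N) :
    ∃ g : PSp n F, orderOf g = N := by
  obtain ⟨A, hA⟩ := h
  refine ⟨QuotientGroup.mk A, ?_⟩
  rw [← hA, orderOf_eq_orderOf_iff]
  intro k
  rw [← QuotientGroup.mk_pow, QuotientGroup.eq_one_iff]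
  constructor
  · intro hc
    apply Subtype.ext
    rcases ClassicalGeometry.SympInvolutions.center_eq hc with h | h
    · exact h
    · rw [h]
      have h2 : (2 : F) = 0 := by exact_mod_cast CharP.cast_eq_zero F 2
      have h3 : (-1 : F) = 1 := by linear_combination -h2
      change (-1 : Matrix (Fin n ⊕ Fin n) (Fin n ⊕ Fin n) F) = 1
      rw [← one_smul F (1 : Matrix (Fin n ⊕ Fin n) (Fin n ⊕ Fin n) F), ← neg_smul, h3]
  · intro hc
    rw [hc]
    exact one_mem _

end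

variable {F : Type*} [Field F] [Fintype F] {m : ℕ}

theorem charP_two (hF : Fintype.card F = 2 ^ m) : CharP F 2 :=
  CharTwo.of_one_ne_zero_of_two_eq_zero one_ne_zero (LowPlus.two_eq_zero hF)

/-- **L9 (a)** -/
theorem sp_a (hF : Fintype.card F = 2 ^ m) : ∃ g : PSp 3 F, orderOf g = Fintype.card F ^ 3 - 1 := by
  haveI := charP_two hF
  have h := SpEmb.exists_minus F 3 (by norm_num)
  rw [Nat.card_eq_fintype_card] at h
  exact exists_PSp h

/-- **L9 (b)** -/
theorem sp_b (hF : Fintype.card F = 2 ^ m) : ∃ g : PSp 3 F, orderOf g = Fintype.card F ^ 3 + 1 := by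
  haveI := charP_two hF
  have h := SpEmb.exists_plus F 3 (by norm_num)
  rw [Nat.card_eq_fintype_card] at h
  exact exists_PSp h

/-- **L9 (c)** -/
theorem sp_c (hF : Fintype.card F = 2 ^ m) : ∃ g : PSp 3 F, orderOf g = Fintype.card F ^ 2 + 1 := by
  haveI := charP_two hF
  obtain ⟨A, hA⟩ := SpEmb.exists_plus F 2 (by norm_num)
  rw [Nat.card_eq_fintype_card] at hA
  have h := SpEmb.exists_block (n := 3) (b := 1) (by norm_num) A hA 1 orderOf_one
  rw [Nat.lcm_one_right] at h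
  exact exists_PSp h

/-- **L9 (d)** -/
theorem sp_d (hF : Fintype.card F = 2 ^ m) : ∃ g : PSp 3 F, orderOf g = 8 := by
  haveI := charP_two hF
  exact exists_PSp exists_eight

end Cfsg.Agent.H206.LowSp
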