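import Cfsg.Agent.H206.SepSL
import Cfsg.Agent.H903.SylRegTL
import Cfsg.Agent.H868.MeetOddPSL

/-!
# The linear row of S2484 (`p = 3`) in cross characteristic (helper206, task 1591)

* `sepSL_odd` : `sepSL_cross` for all odd primes; `meet_PSL_odd`, `meet3_PSL_cross`.
-/

set_option autoImplicit false

namespace Cfsg.Agent.H206.Meet3PSL

open Cfsg.Agent.H903.SylSemi Cfsg.Agent.H903.SylReg Cfsg.Agent.H206.FieldKill Cfsg.Agent.H206.SepCross

/-- **`SepSL` for all odd primes.** -/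
theorem sepSL_odd {p : ℕ} [Fact p.Prime] (hp : 3 ≤ p) {F : Type*} [Field F] [Finite F] (hpF : (p : F) ≠ 0)
    {V : Type*} [AddCommGroup V] [Module F V] [Finite V] (h3 : 3 ≤ Module.finrank F V)
    (hreg : Cfsg.Agent.H903.SylReg.RegSL p F V) : Cfsg.Agent.H903.SylSemi.SepSL p F V := by
  intro Γ hΓ hY hsc
  have hnt : Nontrivial V := Module.nontrivial_of_finrank_pos (R := F) (by omega)
  let R : Subgroup (V ≃ₗ[F] V) := Γ.comap (lp F V)
  have hR : ∀ r, r ∈ R ↔ lp F V r ∈ Γ := fun _ => Iff.rfl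
  obtain ⟨v, φ, hv, hφ, h, hr, hA, hD⟩ := hreg R (by
    rintro ⟨r, hr⟩
    obtain ⟨k, hk⟩ := hΓ ⟨_, hr⟩
    refine ⟨k, Subtype.ext ?_⟩
    have h4 : lp F V (r ^ p ^ k) = 1 := by
      rw [map_pow]
      exact congrArg Subtype.val hk
    exact lp_injective (h4.trans (map_one _).symm)) (fun a ha => by
    rw [hR, lp_smulOfUnit]
    exact hsc a ha)
  by_contra hcon
  have main : ∀ c : F, c ≠ 0 → ∃ y ∈ Γ, ∃ θ : F ≃+* F, Semi F y θ ∧ θ ≠ 1 ∧
      lp F V (tv h c) * y = y * lp F V (tv h c) := by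
    intro c hc
    by_contra hc2
    apply hcon
    refine ⟨lp F V (tv h c), isSL_tv h c, fun y hy ha => ?_⟩
    obtain ⟨a, ha⟩ := ha
    obtain ⟨θ, hθ⟩ := hY y hy
    have hk := key h3 hΓ hsc hR hv hφ h hA hD hc hy hθ ha
    by_cases h1 : θ = 1
    · subst h1
      exact lin_scalar hΓ hsc hR hv hφ h hr hc hy hθ hk
    · exact absurd ⟨y, hy, θ, hθ, h1, hk⟩ hc2
  by_cases hno : ∃ τ : F ≃+* F, orderOf τ = p
  · obtain ⟨τ, hτ⟩ := hno
    obtain ⟨u, hu⟩ := field_kill (by omega) hpF τ hτ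
    obtain ⟨y₁, hy₁, θ₁, hθ₁, hn₁, hg₁⟩ := main 1 one_ne_zero
    obtain ⟨y₂, hy₂, θ₂, hθ₂, hn₂, hg₂⟩ := main u u.ne_zero
    obtain ⟨m₁, hm₁⟩ := exists_pow_comp hΓ hy₁ hθ₁ hn₁ hτ
    obtain ⟨m₂, hm₂⟩ := exists_pow_comp hΓ hy₂ hθ₂ hn₂ hτ
    have hc₁ : lp F V (tv h 1) * y₁ ^ m₁ = y₁ ^ m₁ * lp F V (tv h 1) := (Commute.pow_right hg₁ m₁)
    have hc₂ : lp F V (tv h (u : F)) * y₂ ^ m₂ = y₂ ^ m₂ * lp F V (tv h (u : F)) := (Commute.pow_right hg₂ m₂)
    obtain ⟨t₁, ht₁, hv₁, hφ₁⟩ := comm_conseq h hφ hv one_ne_zero hm₁ hc₁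
    obtain ⟨t₂, ht₂, hv₂, hφ₂⟩ := comm_conseq h hφ hv u.ne_zero hm₂ hc₂
    set z₁ := y₁ ^ m₁ with hz₁
    set z₂ := y₂ ^ m₂ with hz₂
    have hwΓ : z₂ * z₁⁻¹ ∈ Γ := Γ.mul_mem (Γ.pow_mem hy₂ _) (Γ.inv_mem (Γ.pow_mem hy₁ _))
    have hwS : Semi F (z₂ * z₁⁻¹) (1 : F ≃+* F) := by
      have := semi_mul hm₂ (semi_inv hm₁)
      rwa [mul_inv_cancel] at this
    obtain ⟨w, hw⟩ := exists_lp hwS
    obtain ⟨k, hk⟩ := hΓ ⟨_, hwΓ⟩
    have h4 : lp F V (w ^ p ^ k) = 1 := by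
      rw [map_pow, hw]
      exact congrArg Subtype.val hk
    have h5 : w ^ p ^ k = 1 := lp_injective (h4.trans (map_one _).symm)
    have hw1 : ∀ x, w (z₁ x) = z₂ x := by
      intro x
      have h6 : lp F V w (z₁ x) = (z₂ * z₁⁻¹) (z₁ x) := by rw [hw]
      rw [Equiv.Perm.mul_apply] at h6
      have h7 : z₁⁻¹ (z₁ x) = x := z₁.symm_apply_apply x
      rw [h7] at h6
      exact h6
    have hwv : w v = (t₂ * t₁⁻¹) • v := by
      have h6 := hw1 v
      rw [hv₁, hv₂, map_smul] at h6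
      rw [mul_comm, mul_smul, ← h6, smul_smul, inv_mul_cancel₀ ht₁, one_smul]
    have hu0 := u.ne_zero
    have hwφ : ∀ x, φ (w x) = (τ u / u * (t₂ * t₁⁻¹)) * φ x := by
      intro x
      obtain ⟨x, rfl⟩ := z₁.surjective x
      have h6 := hφ₁ x
      have h7 := hφ₂ x
      rw [hw1]
      rw [one_mul, map_one, one_mul] at h6
      rw [h6]
      have h8 : φ (z₂ x) = (u : F)⁻¹ * (τ u * t₂ * τ (φ x)) := by
        rw [← h7, ← mul_assoc, inv_mul_cancel₀ hu0, one_mul]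
      rw [h8]
      field_simp
    have hpow : ∀ n : ℕ, (w ^ n) v = (t₂ * t₁⁻¹) ^ n • v := by
      intro n
      induction n with
      | zero => rw [pow_zero, pow_zero, one_smul]; rfl
      | succ n ih =>
        rw [pow_succ]
        change (w ^ n) (w v) = _
        rw [hwv, map_smul, ih, smul_smul, pow_succ, mul_comm]
    have hpow2 : ∀ n : ℕ, ∀ x, φ ((w ^ n) x) = (τ u / u * (t₂ * t₁⁻¹)) ^ n * φ x := by
      intro n
      induction n with
      | zero =>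
        intro x
        rw [pow_zero, pow_zero, one_mul]
        rfl
      | succ n ih =>
        intro x
        rw [pow_succ]
        change φ ((w ^ n) (w x)) = _
        rw [ih, hwφ, pow_succ]
        ring
    have e1 : (t₂ * t₁⁻¹) ^ p ^ k = 1 := by
      have h6 := hpow (p ^ k)
      rw [h5] at h6
      have h7 : (1 : F) • v = ((t₂ * t₁⁻¹) ^ p ^ k) • v := by
        rw [one_smul]
        exact h6
      exact (smul_left_injective F hv h7).symm
    have e2 : (τ u / u * (t₂ * t₁⁻¹)) ^ p ^ k = 1 := by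
      obtain ⟨x, hx⟩ : ∃ x, φ x ≠ 0 := by
        by_contra hcon
        push Not at hcon
        exact hφ (LinearMap.ext hcon)
      have h6 := hpow2 (p ^ k) x
      rw [h5] at h6
      have h7 : (1 : F) * φ x = (τ u / u * (t₂ * t₁⁻¹)) ^ p ^ k * φ x := by
        rw [one_mul]
        exact h6
      exact (mul_right_cancel₀ hx h7).symm
    rw [mul_pow, e1, mul_one] at e2
    apply hu k
    rw [← inv_div, inv_pow, e2, inv_one]
  · push Not at hno
    obtain ⟨y, hy, θ, hθ, hn, -⟩ := main 1 one_ne_zero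
    exact hn (comp_eq_one hΓ hy hθ hno)


/-- all odd primes -/
theorem meet_PSL_odd {p n : ℕ} [Fact p.Prime] (hp : 3 ≤ p) {F : Type} [Field F] [Fintype F] (hF : 4 ≤ Fintype.card F)
    (hpF : (p : F) ≠ 0) (hn : 4 ≤ n) :
    Cfsg.Agent.H903.SylMeet.Meet p (Matrix.ProjectiveSpecialLinearGroup (Fin n) F) := by
  refine Cfsg.Agent.H868.MeetOddPSL.meet_PSL hp (by omega) (fun h => by omega) (sepSL_odd hp hpF ?_ ?_)
  · rw [Module.finrank_fintype_fun_eq_card, Fintype.card_fin]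
    omega
  · refine Cfsg.Agent.H903.SylRegT.regSL p hp F (by rwa [Nat.card_eq_fintype_card]) _ hpF ?_
    rw [Module.finrank_fintype_fun_eq_card, Fintype.card_fin]
    exact hn

theorem meet3_PSL_cross {n : ℕ} {F : Type} [Field F] [Fintype F] (hF : 4 ≤ Fintype.card F) (h3 : (3 : F) ≠ 0)
    (hn : 4 ≤ n) : Cfsg.Agent.H903.SylMeet.Meet 3 (Matrix.ProjectiveSpecialLinearGroup (Fin n) F) := by
  have : Fact (Nat.Prime 3) := ⟨Nat.prime_three⟩
  exact meet_PSL_odd le_rfl hF (by exact_mod_cast h3) hn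

end Cfsg.Agent.H206.Meet3PSL
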