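import Cfsg.Agent.H506.NRowDef
import Cfsg.Agent.H531.RealMove

/-!
# Rows R3 of S4307: the criterion (task 1377)

`NCtx' q T` is impossible if `T` contains an elementary abelian group of order `ρ²`, `q ∣ ρ - 1`, all elements of which
are raised to a power of multiplicative order `q` by some element of `T`.
-/

set_option autoImplicit false

namespace Cfsg.Agent.H206.NRowCrit

open Subgroup Cfsg.Agent.H506.NRow Cfsg.Agent.ChevalleyStructure.SL2Hom Cfsg.Agent.H531

universe u v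

variable {T : Type u} [Group T]

theorem conj_pow_iter {x h : T} {k : ℕ} (h1 : h * x * h⁻¹ = x ^ k) (j : ℕ) : h ^ j * x * (h ^ j)⁻¹ = x ^ (k ^ j) := by
  induction j with
  | zero => simp
  | succ j ih =>
    have h2 : h ^ (j + 1) * x * (h ^ (j + 1))⁻¹ = h * (h ^ j * x * (h ^ j)⁻¹) * h⁻¹ := by
      rw [pow_succ']
      group
    rw [h2, ih, ← conj_pow, h1, ← pow_mul, pow_succ']

/-- an element whose normaliser induces an automorphism of order `q` is not centralised by a Sylow `q`-subgroup -/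
theorem not_nice [Finite T] {q : ℕ} [hq : Fact q.Prime] {x h : T} {k : ℕ} (h1 : h * x * h⁻¹ = x ^ k)
    (h2 : x ^ (k ^ q) = x) (h3 : x ^ k ≠ x) (Q : Sylow q T) (hQ : ∀ y ∈ Q, y * x = x * y) : False := by
  set C := centralizer ({x} : Set T) with hC
  have hmem : ∀ g : T, g ∈ C ↔ g * x = x * g := fun g => mem_centralizer_singleton_iff
  -- commuting with `x` and with `x ^ k` is the same
  have hk : ∀ g : T, g * x ^ k = x ^ k * g → g * x = x * g := by
    intro g hg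
    have h4 : Commute g (x ^ k) := hg
    have h5 := h4.pow_right (k ^ (q - 1))
    rw [← pow_mul, ← pow_succ', Nat.sub_add_cancel hq.out.one_le, h2] at h5
    exact h5
  have hN : h ∈ normalizer (C : Set T) := by
    rw [mem_normalizer_iff]
    intro g
    rw [hmem, hmem]
    constructor
    · intro hg
      apply hk
      rw [← h1]
      have : h * g * h⁻¹ * (h * x * h⁻¹) = h * (g * x) * h⁻¹ := by group
      rw [this, hg]
      group
    · intro hg
      have h4 : Commute (h * g * h⁻¹) (x ^ k) := (show Commute (h * g * h⁻¹) x from hg).pow_right k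
      have h5 : h * g * h⁻¹ * (h * x * h⁻¹) = h * x * h⁻¹ * (h * g * h⁻¹) := by rw [h1]; exact h4
      have h6 : h * (g * x) * h⁻¹ = h * (x * g) * h⁻¹ := by
        have e1 : h * (g * x) * h⁻¹ = h * g * h⁻¹ * (h * x * h⁻¹) := by group
        have e2 : h * (x * g) * h⁻¹ = h * x * h⁻¹ * (h * g * h⁻¹) := by group
        rw [e1, e2, h5]
      exact mul_left_cancel (mul_right_cancel h6)
  have hle : C ≤ normalizer (C : Set T) := le_normalizer
  have hnorm : (C.subgroupOf (normalizer (C : Set T))).Normal := normal_in_normalizer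
  have hq1 : q ∣ C.relIndex (normalizer (C : Set T)) := by
    let hb : normalizer (C : Set T) ⧸ C.subgroupOf (normalizer (C : Set T)) := QuotientGroup.mk ⟨h, hN⟩
    have hb1 : hb ^ q = 1 := by
      have : hb ^ q = QuotientGroup.mk (⟨h, hN⟩ ^ q : normalizer (C : Set T)) := rfl
      rw [this, QuotientGroup.eq_one_iff, mem_subgroupOf]
      change h ^ q ∈ C
      rw [hmem]
      have h4 := conj_pow_iter h1 q
      rw [h2] at h4
      exact mul_inv_eq_iff_eq_mul.1 h4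
    have hb2 : hb ≠ 1 := by
      intro h4
      have h5 : (⟨h, hN⟩ : normalizer (C : Set T)) ∈ C.subgroupOf (normalizer (C : Set T)) :=
        (QuotientGroup.eq_one_iff _).1 h4
      rw [mem_subgroupOf] at h5
      have h6 := (hmem h).1 h5
      exact h3 (by rw [← h1, h6, mul_inv_cancel_right])
    have h4 : orderOf hb = q := orderOf_eq_prime hb1 hb2
    rw [relIndex, ← h4]
    exact orderOf_dvd_natCard hb
  have hQC : (Q : Subgroup T) ≤ C := fun y hy => (hmem y).2 (hQ y hy)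
  have h4 : Nat.card Q * q ∣ Nat.card (normalizer (C : Set T)) := by
    have h5 := (C.subgroupOf (normalizer (C : Set T))).card_mul_index
    rw [Nat.card_congr (subgroupOfEquivOfLe hle).toEquiv] at h5
    rw [← h5]
    exact Nat.mul_dvd_mul (card_dvd_of_le hQC) hq1
  have h5 : Nat.card Q * q ∣ Nat.card Q * (Q : Subgroup T).index := by
    rw [card_mul_index]
    exact h4.trans (card_subgroup_dvd_card _)
  exact Q.not_dvd_index (Nat.dvd_of_mul_dvd_mul_left Nat.card_pos h5)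

/-- **The criterion.** -/
theorem not_nctx [Finite T] {q ρ : ℕ} (hρ : ρ.Prime) (hρ2 : ρ ≠ 2)
    (ψ : Multiplicative (ZMod ρ × ZMod ρ) →* T) (hinj : Function.Injective ψ)
    (hψ : ∀ x, x ≠ 1 → ∃ (h : T) (k : ℕ), (k : ZMod ρ) ^ q = 1 ∧ (k : ZMod ρ) ≠ 1 ∧ h * ψ x * h⁻¹ = ψ x ^ k) :
    ¬ NCtx' q T := by
  intro H
  have hpf : Fact ρ.Prime := ⟨hρ⟩
  have hqf : Fact q.Prime := ⟨H.prime⟩
  have hexp : ∀ x : Multiplicative (ZMod ρ × ZMod ρ), x ^ ρ = 1 := by
    intro x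
    apply Multiplicative.toAdd.injective
    rw [toAdd_pow, toAdd_one]
    ext
    · simp
    · simp
  have hP : IsPGroup ρ ψ.range := by
    rintro ⟨_, x, rfl⟩
    refine ⟨1, Subtype.ext ?_⟩
    rw [pow_one]
    change ψ x ^ ρ = 1
    rw [← map_pow, hexp, map_one]
  have hnc : ¬ IsCyclic ψ.range := by
    intro hcyc
    have h1 : IsCyclic (Multiplicative (ZMod ρ × ZMod ρ)) :=
      isCyclic_of_surjective (MonoidHom.ofInjective hinj).symm (MonoidHom.ofInjective hinj).symm.surjective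
    have h2 := IsCyclic.exponent_eq_card (α := Multiplicative (ZMod ρ × ZMod ρ))
    have h3 : Nat.card (Multiplicative (ZMod ρ × ZMod ρ)) = ρ * ρ := by
      rw [Nat.card_congr Multiplicative.toAdd, Nat.card_prod, Nat.card_zmod]
    have h4 : Monoid.exponent (Multiplicative (ZMod ρ × ZMod ρ)) ∣ ρ := Monoid.exponent_dvd_of_forall_pow_eq_one hexp
    rw [h2, h3] at h4
    have h5 := Nat.le_of_dvd hρ.pos h4
    have h6 := hρ.two_le
    nlinarith
  obtain ⟨x, hx, hxo, -, Q, hQ, -⟩ := H.noncyc ρ hρ hρ2 ψ.range hP hnc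
  obtain ⟨x, rfl⟩ := hx
  have hx1 : x ≠ 1 := by
    rintro rfl
    rw [map_one, orderOf_one] at hxo
    exact hρ.one_lt.ne hxo
  obtain ⟨h, k, hk1, hk2, hk3⟩ := hψ x hx1
  refine not_nice hk3 ?_ ?_ Q hQ
  · conv_rhs => rw [← pow_one (ψ x)]
    rw [pow_eq_pow_iff_modEq, hxo, ← ZMod.natCast_eq_natCast_iff]
    push_cast
    exact hk1
  · intro h4
    conv_rhs at h4 => rw [← pow_one (ψ x)]
    rw [pow_eq_pow_iff_modEq, hxo, ← ZMod.natCast_eq_natCast_iff] at h4
    push_cast at h4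
    exact hk2 h4

theorem exists_unit {q ρ : ℕ} (hq : q.Prime) (hq2 : q ≠ 2) (hρ : ρ.Prime) (hd : q ∣ ρ - 1) :
    ∃ c : (ZMod ρ)ˣ, c ^ q = 1 ∧ (c : ZMod ρ) ^ 2 ≠ 1 := by
  have hpf : Fact ρ.Prime := ⟨hρ⟩
  have hqf : Fact q.Prime := ⟨hq⟩
  obtain ⟨c, hc⟩ := exists_prime_orderOf_dvd_card' (G := (ZMod ρ)ˣ) q (by
    rw [Nat.card_eq_fintype_card, ZMod.card_units]
    exact hd)
  refine ⟨c, by rw [← hc, pow_orderOf_eq_one], fun h => ?_⟩
  have h1 : c ^ 2 = 1 := Units.ext (by rw [Units.val_pow_eq_pow_val]; exact h)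
  have h2 := orderOf_dvd_of_pow_eq_one h1
  rw [hc] at h2
  exact hq2 ((Nat.prime_dvd_prime_iff_eq hq Nat.prime_two).1 h2)

/-- the same with one multiplier -/
theorem not_nctx_of [Finite T] {q ρ : ℕ} (hρ : ρ.Prime) (hρ2 : ρ ≠ 2)
    (ψ : Multiplicative (ZMod ρ × ZMod ρ) →* T) (hinj : Function.Injective ψ) (c : ZMod ρ) (hc : c ^ q = 1) (hc1 : c ≠ 1)
    (hψ : ∀ a b : ZMod ρ, (a, b) ≠ 0 → ∃ (g h : T) (a' b' : ZMod ρ),
      g * ψ (Multiplicative.ofAdd (a, b)) * g⁻¹ = ψ (Multiplicative.ofAdd (a', b')) ∧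
      h * ψ (Multiplicative.ofAdd (a', b')) * h⁻¹ = ψ (Multiplicative.ofAdd (c * a', c * b'))) :
    ¬ NCtx' q T := by
  have hpf : Fact ρ.Prime := ⟨hρ⟩
  refine not_nctx hρ hρ2 ψ hinj fun x hx => ?_
  obtain ⟨⟨a, b⟩, rfl⟩ := Multiplicative.ofAdd.surjective x
  obtain ⟨g, h, a', b', h1, h2⟩ := hψ a b (fun h => hx (by rw [h]; rfl))
  refine ⟨g⁻¹ * h * g, c.val, ?_, ?_, ?_⟩
  · rw [ZMod.natCast_zmod_val, hc]
  · rw [ZMod.natCast_zmod_val]
    exact hc1
  · have h3 : ψ (Multiplicative.ofAdd (c * a', c * b')) = ψ (Multiplicative.ofAdd (a', b')) ^ c.val := by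
      rw [← map_pow]
      congr 1
      apply Multiplicative.toAdd.injective
      rw [toAdd_pow, toAdd_ofAdd, toAdd_ofAdd]
      ext
      · simp
      · simp
    rw [h3, ← h1, conj_pow] at h2
    have h4 : ψ (Multiplicative.ofAdd (a, b)) ^ c.val = g⁻¹ * (g * ψ (Multiplicative.ofAdd (a, b)) ^ c.val * g⁻¹) * g := by
      group
    rw [h4, ← h2]
    group

/-- **Two commuting `SL₂`.** -/
theorem not_nctx_two [Finite T] {q ρ : ℕ} (hρ : ρ.Prime) (hρ2 : ρ ≠ 2) (hd : q ∣ ρ - 1) {F : Type v} [Field F] [CharP F ρ]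
    (φ₁ φ₂ : Matrix.SpecialLinearGroup (Fin 2) F →* T) (hcomm : ∀ A B, φ₁ A * φ₂ B = φ₂ B * φ₁ A)
    (hinj : ∀ a b : F, φ₁ (up a) * φ₂ (up b) = 1 → a = 0 ∧ b = 0) : ¬ NCtx' q T := by
  intro H
  have hpf : Fact ρ.Prime := ⟨hρ⟩
  obtain ⟨c, hc, hc2⟩ := exists_unit H.prime H.odd hρ hd
  have hup : ∀ s t : F, up (s + t) = up s * up t := by
    intro s t
    apply Subtype.ext
    change !![(1 : F), s + t; 0, 1] = !![(1 : F), s; 0, 1] * !![(1 : F), t; 0, 1]
    rw [Matrix.mul_fin_two]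
    simp [add_comm]
  let r : ZMod ρ →+* F := ZMod.castHom dvd_rfl F
  let ψ : Multiplicative (ZMod ρ × ZMod ρ) →* T := MonoidHom.mk'
    (fun x => φ₁ (up (r (Multiplicative.toAdd x).1)) * φ₂ (up (r (Multiplicative.toAdd x).2))) (by
      intro x y
      rw [toAdd_mul, Prod.fst_add, Prod.snd_add, map_add, map_add, hup, hup, map_mul, map_mul]
      have h1 := hcomm (up (r (Multiplicative.toAdd y).1)) (up (r (Multiplicative.toAdd x).2))
      calc _ = φ₁ (up (r (Multiplicative.toAdd x).1)) * (φ₁ (up (r (Multiplicative.toAdd y).1)) *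
          φ₂ (up (r (Multiplicative.toAdd x).2))) * φ₂ (up (r (Multiplicative.toAdd y).2)) := by group
        _ = _ := by rw [h1]; group)
  have hψ : ∀ a b : ZMod ρ, ψ (Multiplicative.ofAdd (a, b)) = φ₁ (up (r a)) * φ₂ (up (r b)) := fun a b => rfl
  have hr : Function.Injective r := r.injective
  have hinj' : Function.Injective ψ := by
    rw [injective_iff_map_eq_one]
    intro x hx
    obtain ⟨⟨a, b⟩, rfl⟩ := Multiplicative.ofAdd.surjective x
    rw [hψ] at hx
    obtain ⟨h1, h2⟩ := hinj _ _ hx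
    rw [map_eq_zero] at h1 h2
    rw [h1, h2]
    rfl
  let u : Fˣ := Units.map (r : ZMod ρ →* F) c
  have hdiag : ∀ t : F, diagSL F u * up t * (diagSL F u)⁻¹ = up ((u : F) ^ 2 * t) := by
    intro t
    rw [mul_inv_eq_iff_eq_mul]
    apply Subtype.ext
    change !![(u : F), 0; 0, ((u⁻¹ : Fˣ) : F)] * !![(1 : F), t; 0, 1] =
      !![(1 : F), (u : F) ^ 2 * t; 0, 1] * !![(u : F), 0; 0, ((u⁻¹ : Fˣ) : F)]
    have h0 := u.ne_zero
    rw [Matrix.mul_fin_two, Matrix.mul_fin_two, Units.val_inv_eq_inv_val]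
    simp only [mul_one, mul_zero, zero_mul, add_zero, zero_add, one_mul]
    congr 3
    field_simp
  refine not_nctx_of hρ hρ2 ψ hinj' ((c : ZMod ρ) ^ 2) ?_ hc2 (fun a b _ => ?_) H
  · rw [← pow_mul, mul_comm, pow_mul]
    have : (c : ZMod ρ) ^ q = 1 := by rw [← Units.val_pow_eq_pow_val, hc, Units.val_one]
    rw [this, one_pow]
  · refine ⟨1, φ₁ (diagSL F u) * φ₂ (diagSL F u), a, b, by rw [one_mul, inv_one, mul_one], ?_⟩
    rw [hψ, hψ]
    have h1 : φ₁ (diagSL F u) * φ₂ (diagSL F u) * (φ₁ (up (r a)) * φ₂ (up (r b))) * (φ₁ (diagSL F u) * φ₂ (diagSL F u))⁻¹ =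
        (φ₁ (diagSL F u) * φ₁ (up (r a)) * (φ₁ (diagSL F u))⁻¹) * (φ₂ (diagSL F u) * φ₂ (up (r b)) * (φ₂ (diagSL F u))⁻¹) := by
      have e1 := hcomm (up (r a)) (diagSL F u)
      have e2 := hcomm (diagSL F u) (diagSL F u)
      have e3 : φ₂ (up (r b)) * (φ₁ (diagSL F u))⁻¹ = (φ₁ (diagSL F u))⁻¹ * φ₂ (up (r b)) := by
        rw [← map_inv]
        exact (hcomm _ _).symm
      have e4 : φ₂ (diagSL F u) * (φ₁ (diagSL F u))⁻¹ = (φ₁ (diagSL F u))⁻¹ * φ₂ (diagSL F u) := by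
        rw [← map_inv]
        exact (hcomm _ _).symm
      rw [mul_inv_rev]
      calc _ = φ₁ (diagSL F u) * (φ₂ (diagSL F u) * φ₁ (up (r a))) * φ₂ (up (r b)) * (φ₂ (diagSL F u))⁻¹ *
          (φ₁ (diagSL F u))⁻¹ := by group
        _ = φ₁ (diagSL F u) * φ₁ (up (r a)) * (φ₂ (diagSL F u) * φ₂ (up (r b)) * (φ₂ (diagSL F u))⁻¹ *
          (φ₁ (diagSL F u))⁻¹) := by rw [← e1]; group
        _ = φ₁ (diagSL F u) * φ₁ (up (r a)) * ((φ₁ (diagSL F u))⁻¹ * (φ₂ (diagSL F u) * φ₂ (up (r b)) *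
          (φ₂ (diagSL F u))⁻¹)) := by
            congr 1
            have e5 := (hcomm (diagSL F u)⁻¹ (diagSL F u * up (r b) * (diagSL F u)⁻¹)).symm
            rw [map_mul, map_mul, map_inv, map_inv] at e5
            exact e5
        _ = _ := by group
    rw [h1, ← map_inv, ← map_mul, ← map_mul, hdiag, ← map_inv, ← map_mul, ← map_mul, hdiag]
    congr 3
    · rw [map_mul, map_pow]
      rfl
    · rw [map_mul, map_pow]
      rfl

end Cfsg.Agent.H206.NRowCrit
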