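import Cfsg.Agent.H206.NRowCrit
import Cfsg.Agent.H531.RMPsp
import Cfsg.Agent.H522.RealOrth

/-!
# Rows R3 of S4307 (task 1377): linear, symplectic and orthogonal groups
-/

set_option autoImplicit false
set_option linter.unusedSectionVars false

namespace Cfsg.Agent.H206.NRowRows

open Subgroup Cfsg.Agent.H506.NRow Cfsg.Agent.ChevalleyStructure.SL2Hom Cfsg.Agent.H531 Cfsg.Agent.H206.NRowCrit
open Matrix (SpecialLinearGroup)

universe v

/-- the injectivity condition in a central quotient -/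
theorem inj_quot {F : Type*} [Field F] {G : Type*} [Group G] (φ₁ φ₂ : SpecialLinearGroup (Fin 2) F →* G)
    (hcomm : ∀ A B, φ₁ A * φ₂ B = φ₂ B * φ₁ A) (h1 : Function.Injective φ₁) (h2 : Function.Injective φ₂) {a b : F}
    (h : φ₁ (up a) * φ₂ (up b) ∈ center G) : a = 0 ∧ b = 0 := by
  have key : ∀ a : F, up a * lo (1 : F) = lo 1 * up a → a = 0 := by
    intro a ha
    have e1 : (up a * lo (1 : F) : SpecialLinearGroup (Fin 2) F).1 0 0 = 1 + a := by
      change (!![(1 : F), a; 0, 1] * !![(1 : F), 0; 1, 1]) 0 0 = 1 + a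
      simp [Matrix.mul_apply, Fin.sum_univ_two]
    have e2 : (lo (1 : F) * up a : SpecialLinearGroup (Fin 2) F).1 0 0 = 1 := by
      change (!![(1 : F), 0; 1, 1] * !![(1 : F), a; 0, 1]) 0 0 = 1
      simp [Matrix.mul_apply, Fin.sum_univ_two]
    rw [ha, e2] at e1
    exact left_eq_add.1 e1
  rw [mem_center_iff] at h
  constructor
  · apply key
    apply h1
    have e := h (φ₁ (lo 1))
    rw [map_mul, map_mul]
    have e3 := hcomm (lo 1) (up b)
    apply mul_right_cancel (b := φ₂ (up b))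
    calc φ₁ (up a) * φ₁ (lo 1) * φ₂ (up b) = φ₁ (up a) * (φ₁ (lo 1) * φ₂ (up b)) := mul_assoc _ _ _
      _ = φ₁ (up a) * φ₂ (up b) * φ₁ (lo 1) := by rw [e3, mul_assoc]
      _ = φ₁ (lo 1) * (φ₁ (up a) * φ₂ (up b)) := e.symm
      _ = φ₁ (lo 1) * φ₁ (up a) * φ₂ (up b) := (mul_assoc _ _ _).symm
  · apply key
    apply h2
    have e := h (φ₂ (lo 1))
    rw [map_mul, map_mul]
    have e3 := hcomm (up a) (lo 1)
    apply mul_left_cancel (a := φ₁ (up a))
    calc φ₁ (up a) * (φ₂ (up b) * φ₂ (lo 1)) = φ₁ (up a) * φ₂ (up b) * φ₂ (lo 1) := (mul_assoc _ _ _).symm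
      _ = φ₂ (lo 1) * (φ₁ (up a) * φ₂ (up b)) := e.symm
      _ = φ₁ (up a) * (φ₂ (lo 1) * φ₂ (up b)) := by rw [← mul_assoc, ← e3, mul_assoc]

theorem not_quot {F : Type*} [Field F] {G : Type*} [Group G] [Finite (G ⧸ center G)] {q ρ : ℕ} (hρ : ρ.Prime)
    (hρ2 : ρ ≠ 2) (hd : q ∣ ρ - 1) [CharP F ρ] (φ₁ φ₂ : SpecialLinearGroup (Fin 2) F →* G)
    (hcomm : ∀ A B, φ₁ A * φ₂ B = φ₂ B * φ₁ A) (h1 : Function.Injective φ₁) (h2 : Function.Injective φ₂) :
    ¬ NCtx' q (G ⧸ center G) := by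
  refine not_nctx_two hρ hρ2 hd ((QuotientGroup.mk' _).comp φ₁) ((QuotientGroup.mk' _).comp φ₂) ?_ ?_
  · intro A B
    change QuotientGroup.mk' (center G) (φ₁ A) * QuotientGroup.mk' (center G) (φ₂ B) = _
    rw [← map_mul, hcomm, map_mul]
    rfl
  · intro a b hab
    apply inj_quot φ₁ φ₂ hcomm h1 h2
    rw [← QuotientGroup.eq_one_iff]
    exact hab

/-! ### linear groups -/

section psl

open Matrix

variable {F : Type*} [Field F] {n : ℕ}

theorem vv_mul (u w u' w' : Fin n → F) : vecMulVec u w * vecMulVec u' w' = (w ⬝ᵥ u') • vecMulVec u w' := by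
  rw [vecMulVec_mul_vecMulVec, vecMulVec_smul]

theorem det_vv (u w : Fin n → F) : (1 + vecMulVec u w).det = 1 + w ⬝ᵥ u := by
  rw [vecMulVec_eq Unit, det_one_add_replicateCol_mul_replicateRow]

variable (i₀ i₁ i₂ : Fin n)

/-- the covector -/
def cov (a b : F) : Fin n → F := Pi.single i₁ a + Pi.single i₂ b

variable {i₀ i₁ i₂}

theorem cov_add (a b a' b' : F) : cov i₁ i₂ (a + a') (b + b') = cov i₁ i₂ a b + cov i₁ i₂ a' b' := by
  unfold cov
  rw [Pi.single_add, Pi.single_add]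
  abel

theorem cov_smul (c a b : F) : cov i₁ i₂ (c * a) (c * b) = c • cov i₁ i₂ a b := by
  unfold cov
  rw [smul_add, ← Pi.single_smul, ← Pi.single_smul]
  rfl

theorem cov_dot (h01 : i₀ ≠ i₁) (h02 : i₀ ≠ i₂) (a b : F) : cov i₁ i₂ a b ⬝ᵥ Pi.single i₀ 1 = 0 := by
  rw [dotProduct_single, mul_one, cov, Pi.add_apply, Pi.single_eq_of_ne h01, Pi.single_eq_of_ne h02, add_zero]

/-- transvections with centre `e₀` -/
def XX (h01 : i₀ ≠ i₁) (h02 : i₀ ≠ i₂) (a b : F) : SpecialLinearGroup (Fin n) F :=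
  ⟨1 + vecMulVec (Pi.single i₀ 1) (cov i₁ i₂ a b), by rw [det_vv, cov_dot h01 h02, add_zero]⟩

theorem XX_add (h01 : i₀ ≠ i₁) (h02 : i₀ ≠ i₂) (a b a' b' : F) :
    XX h01 h02 (a + a') (b + b') = XX h01 h02 a b * XX h01 h02 a' b' := by
  apply Subtype.ext
  change 1 + vecMulVec (Pi.single i₀ 1) (cov i₁ i₂ (a + a') (b + b')) =
    (1 + vecMulVec (Pi.single i₀ 1) (cov i₁ i₂ a b)) * (1 + vecMulVec (Pi.single i₀ 1) (cov i₁ i₂ a' b'))
  rw [mul_add, add_mul, one_mul, mul_one, add_mul, one_mul, vv_mul, cov_dot h01 h02, zero_smul, cov_add, vecMulVec_add]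
  abel

theorem XX_zero (h01 : i₀ ≠ i₁) (h02 : i₀ ≠ i₂) : XX h01 h02 (0 : F) 0 = 1 := by
  apply Subtype.ext
  change 1 + vecMulVec (Pi.single i₀ 1) (cov i₁ i₂ (0 : F) 0) = 1
  rw [cov, Pi.single_zero, Pi.single_zero, add_zero, vecMulVec_zero, add_zero]

theorem XX_conj (h01 : i₀ ≠ i₁) (h02 : i₀ ≠ i₂) (h12 : i₁ ≠ i₂) {a b c : F} (hc : c ≠ 0) (hab : a ≠ 0 ∨ b ≠ 0) :
    ∃ h : SpecialLinearGroup (Fin n) F, h * XX h01 h02 a b * h⁻¹ = XX h01 h02 (c ^ 2 * a) (c ^ 2 * b) := by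
  obtain ⟨v, hv0, hv1⟩ : ∃ v : Fin n → F, (Pi.single i₀ 1 : Fin n → F) ⬝ᵥ v = 0 ∧ cov i₁ i₂ a b ⬝ᵥ v = 1 := by
    rcases hab with ha | hb
    · refine ⟨Pi.single i₁ a⁻¹, ?_, ?_⟩
      · rw [dotProduct_single, Pi.single_eq_of_ne h01.symm, zero_mul]
      · rw [dotProduct_single, cov, Pi.add_apply, Pi.single_eq_same, Pi.single_eq_of_ne h12, add_zero, mul_inv_cancel₀ ha]
    · refine ⟨Pi.single i₂ b⁻¹, ?_, ?_⟩
      · rw [dotProduct_single, Pi.single_eq_of_ne h02.symm, zero_mul]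
      · rw [dotProduct_single, cov, Pi.add_apply, Pi.single_eq_same, Pi.single_eq_of_ne h12.symm, zero_add,
          mul_inv_cancel₀ hb]
  have h00 : (Pi.single i₀ 1 : Fin n → F) ⬝ᵥ Pi.single i₀ 1 = 1 := by
    rw [dotProduct_single, Pi.single_eq_same, mul_one]
  have hφ := cov_dot h01 h02 a b
  set e : Fin n → F := Pi.single i₀ 1 with he
  set φ := cov i₁ i₂ a b with hφd
  have hdet : ((1 + vecMulVec ((c - 1) • e) e) * (1 + vecMulVec ((c⁻¹ - 1) • v) φ)).det = 1 := by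
    rw [det_mul, det_vv, det_vv, dotProduct_smul, dotProduct_smul, h00, hv1, smul_eq_mul, smul_eq_mul, mul_one, mul_one,
      add_sub_cancel, add_sub_cancel, mul_inv_cancel₀ hc]
  let h : SpecialLinearGroup (Fin n) F := ⟨_, hdet⟩
  refine ⟨h, ?_⟩
  rw [mul_inv_eq_iff_eq_mul]
  apply Subtype.ext
  change (1 + vecMulVec ((c - 1) • e) e) * (1 + vecMulVec ((c⁻¹ - 1) • v) φ) * (1 + vecMulVec e φ) =
    (1 + vecMulVec e (cov i₁ i₂ (c ^ 2 * a) (c ^ 2 * b))) * ((1 + vecMulVec ((c - 1) • e) e) *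
      (1 + vecMulVec ((c⁻¹ - 1) • v) φ))
  rw [cov_smul, ← hφd, vecMulVec_smul, smul_vecMulVec, smul_vecMulVec]
  have e1 : vecMulVec e e * vecMulVec v φ = 0 := by rw [vv_mul, hv0, zero_smul]
  have e2 : vecMulVec v φ * vecMulVec e φ = 0 := by rw [vv_mul, hφ, zero_smul]
  have e3 : vecMulVec e e * vecMulVec e φ = vecMulVec e φ := by rw [vv_mul, h00, one_smul]
  have e4 : vecMulVec e φ * vecMulVec e e = 0 := by rw [vv_mul, hφ, zero_smul]
  have e5 : vecMulVec e φ * vecMulVec v φ = vecMulVec e φ := by rw [vv_mul, hv1, one_smul]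
  generalize vecMulVec e e = P at *
  generalize vecMulVec v φ = R at *
  generalize vecMulVec e φ = X at *
  have l1 : (1 + (c - 1) • P) * (1 + (c⁻¹ - 1) • R) = 1 + (c - 1) • P + (c⁻¹ - 1) • R := by
    rw [mul_add, mul_one, add_mul, one_mul, smul_mul_assoc, mul_smul_comm, e1, smul_zero, smul_zero, add_zero]
  rw [l1, mul_add, mul_one, add_mul, add_mul, one_mul, smul_mul_assoc, smul_mul_assoc, e2, e3, smul_zero, add_zero,
    add_mul, one_mul, smul_mul_assoc, mul_add, mul_add, mul_one, mul_smul_comm, mul_smul_comm, e4, e5, smul_zero, add_zero,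
    smul_add, smul_smul]
  have l2 : c ^ 2 * (c⁻¹ - 1) = c - c ^ 2 := by
    field_simp
  rw [l2]
  module

theorem not_psl [Fintype F] (hn : 3 ≤ n) {q ρ : ℕ} (hρ : ρ.Prime) (hρ2 : ρ ≠ 2) (hd : q ∣ ρ - 1) [CharP F ρ] :
    ¬ NCtx' q (ProjectiveSpecialLinearGroup (Fin n) F) := by
  intro H
  have hpf : Fact ρ.Prime := ⟨hρ⟩
  let i₀ : Fin n := ⟨0, by omega⟩
  let i₁ : Fin n := ⟨1, by omega⟩
  let i₂ : Fin n := ⟨2, by omega⟩
  have h01 : i₀ ≠ i₁ := by simp [i₀, i₁]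
  have h02 : i₀ ≠ i₂ := by simp [i₀, i₂]
  have h12 : i₁ ≠ i₂ := by simp [i₁, i₂]
  obtain ⟨c, hc, hc2⟩ := exists_unit H.prime H.odd hρ hd
  let r : ZMod ρ →+* F := ZMod.castHom dvd_rfl F
  let ψ : Multiplicative (ZMod ρ × ZMod ρ) →* ProjectiveSpecialLinearGroup (Fin n) F := MonoidHom.mk'
    (fun x => QuotientGroup.mk (XX h01 h02 (r (Multiplicative.toAdd x).1) (r (Multiplicative.toAdd x).2))) (by
      intro x y
      rw [toAdd_mul, Prod.fst_add, Prod.snd_add, map_add, map_add, XX_add, QuotientGroup.mk_mul])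
  have hψ : ∀ a b : ZMod ρ, ψ (Multiplicative.ofAdd (a, b)) = QuotientGroup.mk (XX h01 h02 (r a) (r b)) := fun a b => rfl
  have hinj : Function.Injective ψ := by
    rw [injective_iff_map_eq_one]
    intro x hx
    obtain ⟨⟨a, b⟩, rfl⟩ := Multiplicative.ofAdd.surjective x
    rw [hψ, QuotientGroup.eq_one_iff, Matrix.SpecialLinearGroup.mem_center_iff] at hx
    obtain ⟨t, -, ht⟩ := hx
    have h1 := congrFun (congrFun ht i₀) i₁
    have h2 := congrFun (congrFun ht i₀) i₂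
    simp [XX, cov, vecMulVec_apply, Matrix.one_apply, h01, h02, h12, h12.symm, h01.symm, h02.symm, Pi.single_apply] at h1 h2
    have h3 : a = 0 := (map_eq_zero r).1 h1.symm
    have h4 : b = 0 := (map_eq_zero r).1 h2.symm
    rw [h3, h4]
    rfl
  refine not_nctx_of hρ hρ2 ψ hinj ((c : ZMod ρ) ^ 2) ?_ hc2 (fun a b hab => ?_) H
  · rw [← pow_mul, mul_comm, pow_mul]
    have : (c : ZMod ρ) ^ q = 1 := by rw [← Units.val_pow_eq_pow_val, hc, Units.val_one]
    rw [this, one_pow]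
  · have hrc : r c ≠ 0 := by
      intro h
      exact c.ne_zero ((map_eq_zero r).1 h)
    obtain ⟨h, hh⟩ := XX_conj h01 h02 h12 (a := r a) (b := r b) hrc (by
      by_contra hcon
      push Not at hcon
      apply hab
      rw [(map_eq_zero r).1 hcon.1, (map_eq_zero r).1 hcon.2]
      rfl)
    refine ⟨1, QuotientGroup.mk h, a, b, by rw [one_mul, inv_one, mul_one], ?_⟩
    rw [hψ, hψ, ← QuotientGroup.mk_inv, ← QuotientGroup.mk_mul, ← QuotientGroup.mk_mul, hh, map_mul, map_mul, map_pow]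

end psl

/-! ### symplectic groups -/

section psp

open Cfsg Cfsg.Agent.KFacts.MulOdd.TypeA Cfsg.Agent.H531.RMPsp
open scoped Matrix

theorem NN_comm {F : Type*} [Field F] {ι : Type} [Fintype ι] [DecidableEq ι] {a b c d : ι} (hab : a ≠ b) (hcd : c ≠ d)
    (hac : a ≠ c) (had : a ≠ d) (hbc : b ≠ c) (hbd : b ≠ d) (g k : Matrix (Fin 2) (Fin 2) F) :
    NN a b g * NN c d k = NN c d k * NN a b g := by
  apply Matrix.toLin'.injective
  refine LinearMap.ext fun u => ?_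
  rw [Matrix.toLin'_apply, Matrix.toLin'_apply, ← Matrix.mulVec_mulVec, ← Matrix.mulVec_mulVec]
  funext i
  by_cases h1 : i = a
  · subst h1
    rw [NN_mulVec_fst hab, NN_mulVec_other _ _ hac had, NN_mulVec_other _ _ hbc hbd, NN_mulVec_other _ _ hac had,
      NN_mulVec_fst hab]
  · by_cases h2 : i = b
    · subst h2
      rw [NN_mulVec_snd hab, NN_mulVec_other _ _ hac had, NN_mulVec_other _ _ hbc hbd, NN_mulVec_other _ _ hbc hbd,
        NN_mulVec_snd hab]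
    · rw [NN_mulVec_other _ _ h1 h2]
      by_cases h3 : i = c
      · subst h3
        rw [NN_mulVec_fst hcd, NN_mulVec_fst hcd, NN_mulVec_other _ _ h1 h2,
          NN_mulVec_other _ _ had.symm hbd.symm]
      · by_cases h4 : i = d
        · subst h4
          rw [NN_mulVec_snd hcd, NN_mulVec_snd hcd, NN_mulVec_other _ _ h1 h2,
            NN_mulVec_other _ _ hac.symm hbc.symm]
        · rw [NN_mulVec_other _ _ h3 h4, NN_mulVec_other _ _ h3 h4, NN_mulVec_other _ _ h1 h2]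

theorem NN_inj {F : Type*} [Field F] {ι : Type} [Fintype ι] [DecidableEq ι] {a b : ι} (hab : a ≠ b)
    {g k : Matrix (Fin 2) (Fin 2) F} (h : NN a b g = NN a b k) : g = k := by
  have h1 := fun i j => congrFun (congrFun h i) j
  ext i j
  fin_cases i <;> fin_cases j
  · simpa [NN] using h1 a a
  · simpa [NN, hab.symm] using h1 a b
  · simpa [NN, hab.symm] using h1 b a
  · simpa [NN, hab.symm] using h1 b b

theorem not_psp {F : Type*} [Field F] {m : ℕ} (hm : 2 ≤ m) [Finite (PSp m F)] {q ρ : ℕ} (hρ : ρ.Prime) (hρ2 : ρ ≠ 2)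
    (hd : q ∣ ρ - 1) [CharP F ρ] : ¬ NCtx' q (PSp m F) := by
  let i₀ : Fin m := ⟨0, by omega⟩
  let i₁ : Fin m := ⟨1, by omega⟩
  have h01 : i₀ ≠ i₁ := by simp [i₀, i₁]
  have hab : ∀ i : Fin m, (Sum.inl i : Fin m ⊕ Fin m) ≠ Sum.inr i := fun i => Sum.inl_ne_inr
  refine not_quot hρ hρ2 hd (emb (F := F) i₀) (emb i₁) ?_ ?_ ?_
  · intro A B
    apply Subtype.ext
    exact NN_comm (hab _) (hab _) (fun h => h01 (Sum.inl_injective h)) Sum.inl_ne_inr Sum.inr_ne_inl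
      (fun h => h01 (Sum.inr_injective h)) A.1 B.1
  · intro A B h
    exact Subtype.ext (NN_inj (hab i₀) (congrArg Subtype.val h))
  · intro A B h
    exact Subtype.ext (NN_inj (hab i₁) (congrArg Subtype.val h))

end psp

/-! ### orthogonal groups -/

section orth

open QuadraticMap Cfsg Cfsg.Agent.LieClassical.OrthCore Cfsg.Agent.LieClassical.OrthTrans
open Cfsg.Agent.ClassicalGeometry.OrthSemi Cfsg.Agent.ClassicalGeometry.OrthSemiCount
open Cfsg.Agent.ClassicalGeometry.OrthSemiForms Cfsg.Agent.LieClassical.OrthSimple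
  Cfsg.Agent.LieClassical.OrthForms
open Cfsg.Agent.UGT.U2.FOne.Orth (Four)
open Cfsg.Agent.H522.RealOrth

theorem four_comm {F V : Type*} [Field F] [AddCommGroup V] [Module F V] {Q : QuadraticForm F V} {e₁ f₁ e₂ f₂ : V}
    (h : Four Q e₁ f₁ e₂ f₂) (M N : SpecialLinearGroup (Fin 2) F) (v : V) :
    h.phi M (h.swap.phi N v) = h.swap.phi N (h.phi M v) := by
  have a1 := h.swap.polar_f1 N v
  have a2 := h.swap.polar_f2 N v
  have a3 := h.swap.polar_e1 N v
  have a4 := h.swap.polar_e2 N v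
  have b1 := h.polar_f1 M v
  have b2 := h.polar_f2 M v
  have b3 := h.polar_e1 M v
  have b4 := h.polar_e2 M v
  rw [Four.phi, a1, a2, a3, a4, Four.phi, Four.phi, b1, b2, b3, b4, Four.phi]
  module

theorem not_orth {F : Type*} [Field F] [Finite F] {ι : Type} [Fintype ι] [DecidableEq ι] {Q : QuadraticForm F (ι → F)}
    {e₁ f₁ e₂ f₂ : ι → F} (hG : Good Q) (h : Four Q e₁ f₁ e₂ f₂) [Finite (POmega F ⇑Q)] {q ρ : ℕ} (hρ : ρ.Prime)
    (hρ2 : ρ ≠ 2) (hd : q ∣ ρ - 1) [CharP F ρ] : ¬ NCtx' q (POmega F ⇑Q) := by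
  have hcomm : ∀ A B, h.rhoE A * h.swap.rhoE B = h.swap.rhoE B * h.rhoE A := by
    intro A B
    apply Subtype.ext
    apply LinearEquiv.ext
    intro v
    exact four_comm h A B v
  have hi : ∀ {e₁ f₁ e₂ f₂ : ι → F} (h : Four Q e₁ f₁ e₂ f₂), Function.Injective h.rhoE := by
    intro e₁ f₁ e₂ f₂ h A B hAB
    apply h.rhoP_injective hG
    rw [h.rhoP_apply, h.rhoP_apply, hAB]
  refine not_nctx_two hρ hρ2 hd (jj hG h) (jj hG h.swap) ?_ ?_
  · intro A B
    have e1 : jj hG h A * jj hG h.swap B = (pomegaEquiv hG).symm (QuotientGroup.mk (h.rhoE A * h.swap.rhoE B)) := by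
      rw [QuotientGroup.mk_mul, map_mul]
      rfl
    have e2 : jj hG h.swap B * jj hG h A = (pomegaEquiv hG).symm (QuotientGroup.mk (h.swap.rhoE B * h.rhoE A)) := by
      rw [QuotientGroup.mk_mul, map_mul]
      rfl
    rw [e1, e2, hcomm]
  · intro a b hab
    apply inj_quot h.rhoE h.swap.rhoE hcomm (hi h) (hi h.swap)
    rw [← QuotientGroup.eq_one_iff]
    have e1 : (pomegaEquiv hG).symm (QuotientGroup.mk (h.rhoE (up a) * h.swap.rhoE (up b))) = 1 := by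
      rw [QuotientGroup.mk_mul, map_mul]
      exact hab
    exact (pomegaEquiv hG).symm.map_eq_one_iff.1 e1

variable {F : Type*} [Field F] [Fintype F] {m q ρ : ℕ}

theorem not_odd (hm : 3 ≤ m) [Finite (POmega F (quadFormOdd m F))] (hρ : ρ.Prime) (hρ2 : ρ ≠ 2) (hd : q ∣ ρ - 1)
    [CharP F ρ] : ¬ NCtx' q (POmega F (quadFormOdd m F)) := by
  have h20 : (2 : F) ≠ 0 := by
    intro h
    have h1 : ((2 : ℕ) : F) = 0 := by exact_mod_cast h
    have h2 := (CharP.cast_eq_zero_iff F ρ 2).1 h1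
    exact hρ2 ((Nat.prime_dvd_prime_iff_eq hρ Nat.prime_two).1 h2)
  obtain ⟨M, e₁, f₁, e₂, f₂, h4, -⟩ := odd_fx h20 (m := m) (by omega) (1 : F ≃+* F)
  have hf : Finite (POmega F ⇑(oddForm m F)) := by rw [coe_oddForm]; infer_instance
  have := not_orth (good_odd (F := F) (m := m) (by omega) h20) h4 hρ hρ2 hd
  rwa [coe_oddForm] at this

theorem not_plus (hm : 3 ≤ m) [Finite (POmega F (quadFormPlus m F))] (hρ : ρ.Prime) (hρ2 : ρ ≠ 2) (hd : q ∣ ρ - 1)
    [CharP F ρ] : ¬ NCtx' q (POmega F (quadFormPlus m F)) := by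
  obtain ⟨M, e₁, f₁, e₂, f₂, h4, -⟩ := plus_fx (F := F) (m := m) (by omega) (1 : F ≃+* F)
  have hf : Finite (POmega F ⇑(plusForm m F)) := by rw [coe_plusForm]; infer_instance
  have := not_orth (good_plus (F := F) (m := m) hm) h4 hρ hρ2 hd
  rwa [coe_plusForm] at this

theorem not_minus (hm : 2 ≤ m) (a b : F)
    (hab : ∀ z₁ z₂ : F, z₁ ^ 2 + a * z₁ * z₂ + b * z₂ ^ 2 = 0 → z₁ = 0 ∧ z₂ = 0)
    [Finite (POmega F (quadFormMinus m F a b))] (hρ : ρ.Prime) (hρ2 : ρ ≠ 2) (hd : q ∣ ρ - 1)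
    [CharP F ρ] : ¬ NCtx' q (POmega F (quadFormMinus m F a b)) := by
  obtain ⟨M, e₁, f₁, e₂, f₂, h4, -⟩ := minus_fx (F := F) hm a b hab (1 : F ≃+* F)
  have hf : Finite (POmega F ⇑(minusForm m F a b)) := by rw [coe_minusForm]; infer_instance
  have := not_orth (good_minus (F := F) (m := m) hm a b hab) h4 hρ hρ2 hd
  rwa [coe_minusForm] at this

end orth

end Cfsg.Agent.H206.NRowRows
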