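import Cfsg.Agent.H369.Socle

/-!
# Boosting element orders (helper206, task 2327 for S3624, S3451)

* `order_boost` : if `g` moves the member `S` of a commuting family around with period `N` and `u * g ^ N` acts on `S`
  with order divisible by `q`, then `N * q` divides the order of `u * g`.
-/

set_option autoImplicit false

namespace Cfsg.Agent.H206.OrderBoost

open Cfsg Cfsg.Agent.H369.Socle Subgroup

theorem order_boost {X : Type*} [Group X] [Finite X] {𝓐 : Set (Subgroup X)} (Fm : Fam 𝓐) {S : Subgroup X} (hS : S ∈ 𝓐)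
    {g : X} {N : ℕ} (hN : 0 < N) (hNS : g ^ N ∈ normalizer (S : Set X))
    (hmin : ∀ i : ℕ, 0 < i → i < N → cj (g ^ i) S ≠ S) {q : ℕ}
    (h : ∃ u : S, q ∣ orderOf (MulAut.conj u * S.normalizerMonoidHom ⟨g ^ N, hNS⟩)) : ∃ x : X, N * q ∣ orderOf x := by
  obtain ⟨u, hu⟩ := h
  set τ : MulAut S := S.normalizerMonoidHom ⟨g ^ N, hNS⟩ with hτdef
  have hτ : ∀ x : S, ((τ x : S) : X) = g ^ N * x * (g ^ N)⁻¹ := fun x => rfl
  set k : X := (u : X) * g with hk
  -- members are normalised by `u`
  have hcju : ∀ D ∈ 𝓐, cj (u : X) D = D := by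
    intro D hD
    by_cases hSD : S = D
    · subst hSD
      ext x
      rw [mem_cj]
      constructor
      · intro hx
        have h1 := mul_mem (mul_mem u.2 hx) (inv_mem u.2)
        have e : (u : X) * ((u : X)⁻¹ * x * u) * (u : X)⁻¹ = x := by group
        rwa [e] at h1
      · intro hx
        exact mul_mem (mul_mem (inv_mem u.2) hx) u.2
    · ext x
      rw [mem_cj]
      constructor
      · intro hx
        have h1 := Fm.comm S hS D hD hSD _ u.2 _ hx
        have e : x = (u : X)⁻¹ * x * u := by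
          have h2 : (u : X) * ((u : X)⁻¹ * x * u) = x * u := by group
          rw [h2] at h1
          exact (mul_right_cancel h1)
        rw [e]
        exact hx
      · intro hx
        have h1 := Fm.comm S hS D hD hSD _ u.2 _ hx
        have e : (u : X)⁻¹ * x * u = x := by
          rw [mul_assoc, ← h1]
          group
        rw [e]
        exact hx
  have hcj : ∀ i : ℕ, cj (k ^ i) S = cj (g ^ i) S := by
    intro i
    induction i with
    | zero => rw [pow_zero, pow_zero]
    | succ i ih =>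
      rw [pow_succ', cj_mul, ih, hk, cj_mul, ← cj_mul g, ← pow_succ', hcju _ (Fm.conj S hS _)]
  have hcjN : cj (g ^ N) S = S := by
    ext x
    rw [mem_cj]
    rw [mem_normalizer_iff] at hNS
    have h1 := hNS ((g ^ N)⁻¹ * x * g ^ N)
    have e : g ^ N * ((g ^ N)⁻¹ * x * g ^ N) * (g ^ N)⁻¹ = x := by group
    rw [e] at h1
    exact h1
  have hcjNt : ∀ t : ℕ, cj (g ^ (N * t)) S = S := by
    intro t
    induction t with
    | zero => rw [mul_zero, pow_zero, cj_one]
    | succ t ih => rw [Nat.mul_succ, pow_add, cj_mul, hcjN, ih]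
  -- `N ∣ orderOf k`
  have hNd : N ∣ orderOf k := by
    have h1 : cj (g ^ orderOf k) S = S := by rw [← hcj, pow_orderOf_eq_one, cj_one]
    have h2 : g ^ orderOf k = g ^ (orderOf k % N) * g ^ (N * (orderOf k / N)) := by
      rw [← pow_add, Nat.mod_add_div]
    rw [h2, cj_mul, hcjNt] at h1
    by_contra hcon
    exact hmin _ (Nat.pos_of_ne_zero fun h0 => hcon (Nat.dvd_of_mod_eq_zero h0)) (Nat.mod_lt _ hN) h1
  -- the action of `k ^ N`
  have hkC : ∀ x : S, k ^ N * (x : X) * (k ^ N)⁻¹ = ((MulAut.conj u * τ) x : S) := by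
    intro x
    obtain ⟨m', hm'⟩ : ∃ m', N = m' + 1 := ⟨N - 1, by omega⟩
    have h1 := Fm.pow_conj (m := N) (h := g) hS hS u.2 (fun i h1 h2 => hmin i h1 h2) x.2 m' (by omega)
    rw [MulAut.mul_apply, MulAut.conj_apply, Subgroup.coe_mul, Subgroup.coe_mul, hτ, Subgroup.coe_inv]
    rw [← hk] at h1
    have e1 : k ^ N = k * k ^ m' := by rw [hm', pow_succ']
    have e2 : g ^ N = g * g ^ m' := by rw [hm', pow_succ']
    rw [e1, e2]
    calc k * k ^ m' * (x : X) * (k * k ^ m')⁻¹ = k * (k ^ m' * x * (k ^ m')⁻¹) * k⁻¹ := by group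
      _ = k * (g ^ m' * x * (g ^ m')⁻¹) * k⁻¹ := by rw [h1]
      _ = _ := by
        rw [hk]
        group
  have hkj : ∀ (j : ℕ) (x : S), (k ^ N) ^ j * (x : X) * ((k ^ N) ^ j)⁻¹ = (((MulAut.conj u * τ) ^ j : MulAut S) x : S) := by
    intro j
    induction j with
    | zero => intro x; simp
    | succ j ih =>
      intro x
      rw [pow_succ (MulAut.conj u * τ) j, MulAut.mul_apply, ← ih, ← hkC, pow_succ (k ^ N) j]
      group
  refine ⟨k, ?_⟩
  obtain ⟨c, hc⟩ := hNd
  rw [hc]
  refine Nat.mul_dvd_mul_left _ (hu.trans ?_)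
  apply orderOf_dvd_of_pow_eq_one
  ext x
  rw [← hkj, ← pow_mul, ← hc, pow_orderOf_eq_one]
  simp

end Cfsg.Agent.H206.OrderBoost
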