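import Cfsg.Agent.AutOrth.Main
import Cfsg.Agent.LieClassical.OrthCenter
import Cfsg.Agent.H377.ToOmega

/-!
# A regular unipotent element of `PΩ₈⁺(q)` (helper206)

The product of the four Siegel transformations attached to the simple roots of `D₄`; it has order `8` in
characteristic two (`exists_eight`) and `25` in characteristic five (`exists_twentyfive`).
-/

set_option autoImplicit false
set_option linter.unusedSectionVars false
set_option linter.unusedSimpArgs false
set_option linter.style.haveILetI false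

namespace Cfsg.Agent.H206.RegUni

open QuadraticMap
open Cfsg.Agent.LieClassical.OrthCore Cfsg.Agent.LieClassical.OrthForms
  Cfsg.Agent.AutOrth.Main Cfsg.Agent.LieClassical.OrthTrans

abbrev I8 := Fin 4 ⊕ Fin 4

/-- elementary matrix with two extra entries -/
def el (R : Type*) [Ring R] (a b : I8) (c d : I8) : Matrix I8 I8 R :=
  Matrix.of fun i j => if i = j then 1 else if i = a ∧ j = b then 1 else if i = c ∧ j = d then -1 else 0

theorem el_map {R S : Type*} [Ring R] [Ring S] (φ : R →+* S) (a b c d : I8) :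
    (el R a b c d).map φ = el S a b c d := by
  ext i j
  simp only [Matrix.map_apply, el, Matrix.of_apply]
  split_ifs <;> simp

/-- the matrix of the product -/
def M (R : Type*) [Ring R] : Matrix I8 I8 R :=
  el R (.inr 1) (.inr 0) (.inl 0) (.inl 1) * el R (.inr 2) (.inr 1) (.inl 1) (.inl 2) *
    (el R (.inr 3) (.inr 2) (.inl 2) (.inl 3) * el R (.inl 3) (.inr 2) (.inl 2) (.inr 3))

theorem M_map {R S : Type*} [Ring R] [Ring S] (φ : R →+* S) : (M R).map φ = M S := by
  simp only [M, Matrix.map_mul, el_map]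

theorem M_pow_map {R S : Type*} [Ring R] [Ring S] (φ : R →+* S) (k : ℕ) : (M R ^ k).map φ = M S ^ k := by
  rw [← M_map φ]
  exact map_pow (RingHom.mapMatrix φ) (M R) k

/-! ### the powers in characteristic two and five -/

def ix : I8 → ℕ
  | .inl i => i.1
  | .inr i => 4 + i.1

def lit (p : ℕ) (l : List (List ℕ)) : Matrix I8 I8 (ZMod p) :=
  Matrix.of fun i j => (((l.getD (ix i) []).getD (ix j) 0 : ℕ) : ZMod p)

def two1 : Matrix I8 I8 (ZMod 2) := lit 2 [[1, 1, 1, 1, 0, 0, 1, 1], [0, 1, 1, 1, 0, 0, 1, 1], [0, 0, 1, 1, 0, 0, 1, 1], [0, 0, 0, 1, 0, 0, 1, 0], [0, 0, 0, 0, 1, 0, 0, 0], [0, 0, 0, 0, 1, 1, 0, 0], [0, 0, 0, 0, 0, 1, 1, 0], [0, 0, 0, 0, 0, 0, 1, 1]]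
def two2 : Matrix I8 I8 (ZMod 2) := lit 2 [[1, 0, 1, 0, 0, 1, 0, 0], [0, 1, 0, 1, 0, 1, 1, 1], [0, 0, 1, 0, 0, 1, 0, 0], [0, 0, 0, 1, 0, 1, 0, 0], [0, 0, 0, 0, 1, 0, 0, 0], [0, 0, 0, 0, 0, 1, 0, 0], [0, 0, 0, 0, 1, 0, 1, 0], [0, 0, 0, 0, 0, 1, 0, 1]]
def two4 : Matrix I8 I8 (ZMod 2) := lit 2 [[1, 0, 0, 0, 0, 1, 0, 0], [0, 1, 0, 0, 1, 0, 0, 0], [0, 0, 1, 0, 0, 0, 0, 0], [0, 0, 0, 1, 0, 0, 0, 0], [0, 0, 0, 0, 1, 0, 0, 0], [0, 0, 0, 0, 0, 1, 0, 0], [0, 0, 0, 0, 0, 0, 1, 0], [0, 0, 0, 0, 0, 0, 0, 1]]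
def five1 : Matrix I8 I8 (ZMod 5) := lit 5 [[1, 4, 1, 4, 0, 0, 4, 4], [0, 1, 4, 1, 0, 0, 1, 1], [0, 0, 1, 4, 0, 0, 4, 4], [0, 0, 0, 1, 0, 0, 1, 0], [0, 0, 0, 0, 1, 0, 0, 0], [0, 0, 0, 0, 1, 1, 0, 0], [0, 0, 0, 0, 0, 1, 1, 0], [0, 0, 0, 0, 0, 0, 1, 1]]
def five2 : Matrix I8 I8 (ZMod 5) := lit 5 [[1, 3, 3, 1, 0, 4, 4, 1], [0, 1, 3, 3, 0, 1, 0, 3], [0, 0, 1, 3, 0, 4, 1, 3], [0, 0, 0, 1, 0, 1, 2, 0], [0, 0, 0, 0, 1, 0, 0, 0], [0, 0, 0, 0, 2, 1, 0, 0], [0, 0, 0, 0, 1, 2, 1, 0], [0, 0, 0, 0, 0, 1, 2, 1]]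
def five4 : Matrix I8 I8 (ZMod 5) := lit 5 [[1, 1, 0, 0, 2, 3, 0, 0], [0, 1, 1, 0, 2, 0, 0, 0], [0, 0, 1, 1, 4, 1, 4, 1], [0, 0, 0, 1, 4, 1, 4, 0], [0, 0, 0, 0, 1, 0, 0, 0], [0, 0, 0, 0, 4, 1, 0, 0], [0, 0, 0, 0, 1, 4, 1, 0], [0, 0, 0, 0, 4, 1, 4, 1]]
def five5 : Matrix I8 I8 (ZMod 5) := lit 5 [[1, 0, 0, 0, 0, 3, 0, 0], [0, 1, 0, 0, 2, 0, 0, 0], [0, 0, 1, 0, 0, 0, 0, 0], [0, 0, 0, 1, 0, 0, 0, 0], [0, 0, 0, 0, 1, 0, 0, 0], [0, 0, 0, 0, 0, 1, 0, 0], [0, 0, 0, 0, 0, 0, 1, 0], [0, 0, 0, 0, 0, 0, 0, 1]]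
def five10 : Matrix I8 I8 (ZMod 5) := lit 5 [[1, 0, 0, 0, 0, 1, 0, 0], [0, 1, 0, 0, 4, 0, 0, 0], [0, 0, 1, 0, 0, 0, 0, 0], [0, 0, 0, 1, 0, 0, 0, 0], [0, 0, 0, 0, 1, 0, 0, 0], [0, 0, 0, 0, 0, 1, 0, 0], [0, 0, 0, 0, 0, 0, 1, 0], [0, 0, 0, 0, 0, 0, 0, 1]]
def five20 : Matrix I8 I8 (ZMod 5) := lit 5 [[1, 0, 0, 0, 0, 2, 0, 0], [0, 1, 0, 0, 3, 0, 0, 0], [0, 0, 1, 0, 0, 0, 0, 0], [0, 0, 0, 1, 0, 0, 0, 0], [0, 0, 0, 0, 1, 0, 0, 0], [0, 0, 0, 0, 0, 1, 0, 0], [0, 0, 0, 0, 0, 0, 1, 0], [0, 0, 0, 0, 0, 0, 0, 1]]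

theorem M_two : M (ZMod 2) = two1 := by decide +kernel
theorem two_two : two1 * two1 = two2 := by decide +kernel
theorem two_four : two2 * two2 = two4 := by decide +kernel
theorem two_eight : two4 * two4 = 1 := by decide +kernel
theorem two4_ne : two4 ≠ 1 := by decide +kernel
theorem M_five : M (ZMod 5) = five1 := by decide +kernel
theorem five_two : five1 * five1 = five2 := by decide +kernel
theorem five_four : five2 * five2 = five4 := by decide +kernel
theorem five_five : five4 * five1 = five5 := by decide +kernel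
theorem five_ten : five5 * five5 = five10 := by decide +kernel
theorem five_twenty : five10 * five10 = five20 := by decide +kernel
theorem five_last : five20 * five5 = 1 := by decide +kernel
theorem five5_ne : five5 ≠ 1 := by decide +kernel

theorem pow_four' {G : Type*} [Monoid G] {a b c : G} (h1 : a * a = b) (h2 : b * b = c) : a ^ 4 = c := by
  rw [← h2, ← h1]
  simp only [pow_succ, pow_zero, one_mul, mul_assoc]

theorem M_two_four : M (ZMod 2) ^ 4 = two4 := by
  rw [M_two]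
  exact pow_four' two_two two_four

theorem M_two_eight : M (ZMod 2) ^ 8 = 1 := by
  have h : M (ZMod 2) ^ 8 = (M (ZMod 2) ^ 4) * (M (ZMod 2) ^ 4) := pow_add _ 4 4
  rw [h, M_two_four, two_eight]

theorem M_five_five : M (ZMod 5) ^ 5 = five5 := by
  have h : M (ZMod 5) ^ 5 = (M (ZMod 5) ^ 4) * M (ZMod 5) := pow_succ _ 4
  have h4 : M (ZMod 5) ^ 4 = five4 := by
    rw [M_five]
    exact pow_four' five_two five_four
  rw [h, h4, M_five, five_five]

theorem M_five_last : M (ZMod 5) ^ 25 = 1 := by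
  have h : M (ZMod 5) ^ 25 = (M (ZMod 5) ^ 5) ^ 4 * (M (ZMod 5) ^ 5) := by
    rw [← pow_mul, ← pow_add]
  rw [h, M_five_five, pow_four' five_ten five_twenty, five_last]

section

variable {F : Type*} [Field F]

theorem M_pow_eq_one_iff {p : ℕ} [CharP F p] (k : ℕ) : M F ^ k = 1 ↔ M (ZMod p) ^ k = 1 := by
  rw [← M_pow_map (ZMod.castHom (dvd_refl p) F) k]
  constructor
  · intro h
    ext i j
    apply ZMod.castHom_injective F
    have := congrFun (congrFun h i) j
    rw [Matrix.map_apply] at this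
    rw [this, Matrix.one_apply, Matrix.one_apply]
    split_ifs <;> simp
  · intro h
    rw [h]
    exact Matrix.map_one _ (map_zero _) (map_one _)

/-- basis vectors -/
def bv (F : Type*) [Field F] (i : I8) : I8 → F := Pi.single i 1

/-- the opposite index -/
def op : I8 → I8
  | .inl i => .inr i
  | .inr i => .inl i

theorem Q_bv (i : I8) : plusForm 4 F (bv F i) = 0 := by
  rw [coe_plusForm, quadFormPlus_apply]
  rcases i with i | i <;> fin_cases i <;> simp [bv, Fin.sum_univ_four, Pi.single_apply]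

theorem polar_bv (i : I8) (v : I8 → F) : polar (plusForm 4 F) (bv F i) v = v (op i) := by
  rw [polar_plusForm]
  rcases i with i | i <;> fin_cases i <;> simp [bv, op, Fin.sum_univ_four, Pi.single_apply]

/-- the Siegel transformation of two orthogonal basis vectors -/
noncomputable def sg (F : Type*) [Field F] (i j : I8) (h : j ≠ op i) : (I8 → F) ≃ₗ[F] (I8 → F) :=
  siegel (plusForm 4 F) (bv F i) (bv F j) (Q_bv i) (by
    rw [polar_bv, bv, Pi.single_apply, if_neg h.symm])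

theorem sg_apply (i j : I8) (h : j ≠ op i) (v : I8 → F) :
    sg F i j h v = v + v (op i) • bv F j - v (op j) • bv F i := by
  rw [sg, siegel_apply, polar_bv, polar_bv, Q_bv, zero_mul, zero_smul, sub_zero]

theorem sg_mem (i j : I8) (h : j ≠ op i) : sg F i j h ∈ E (plusForm 4 F) := siegel_mem_E _ _

theorem el_mulVec (a b c d : I8) (hab : a ≠ b) (hcd : c ≠ d) (hac : a ≠ c) (v : I8 → F) :
    (el F a b c d).mulVec v = v + v b • bv F a - v d • bv F c := by
  funext i
  simp only [Matrix.mulVec, dotProduct, el, Matrix.of_apply, Pi.add_apply, Pi.sub_apply,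
    Pi.smul_apply, smul_eq_mul, bv, Pi.single_apply]
  have key : ∀ j : I8, (if i = j then (1 : F) else if i = a ∧ j = b then 1 else if i = c ∧ j = d then -1 else 0)
      * v j = (if i = j then v j else 0) + (if j = b then (if i = a then v j else 0) else 0)
        - (if j = d then (if i = c then v j else 0) else 0) := by
    intro j
    by_cases h1 : i = j
    · subst h1
      by_cases h2 : i = b
      · subst h2
        by_cases h3 : i = d
        · subst h3
          simp [Ne.symm hab, Ne.symm hcd]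
        · simp [Ne.symm hab, h3]
      · by_cases h3 : i = d
        · subst h3
          simp [Ne.symm hcd, h2]
        · simp [h2, h3]
    · by_cases h2 : j = b
      · subst h2
        by_cases h3 : i = a
        · subst h3
          simp [h1, hac]
        · by_cases h4 : j = d
          · subst h4
            by_cases h5 : i = c
            · subst h5
              simp [h1, h3, Ne.symm hac]
            · simp [h1, h3, h5]
          · simp [h1, h3, h4]
      · by_cases h4 : j = d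
        · subst h4
          by_cases h5 : i = c
          · subst h5
            simp [h1, h2]
          · simp [h1, h2, h5]
        · simp [h1, h2, h4]
  rw [Finset.sum_congr rfl fun j _ => key j]
  rw [Finset.sum_sub_distrib, Finset.sum_add_distrib, Finset.sum_ite_eq, Finset.sum_ite_eq', Finset.sum_ite_eq']
  simp

theorem sg_mulVec (i j : I8) (h : j ≠ op i) (h' : i ≠ op j) (hij : j ≠ i) (v : I8 → F) :
    sg F i j h v = (el F j (op i) i (op j)).mulVec v := by
  rw [sg_apply, el_mulVec _ _ _ _ h h' hij]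

/-- the regular unipotent element -/
noncomputable def g (F : Type*) [Field F] : (I8 → F) ≃ₗ[F] (I8 → F) :=
  sg F (.inl 0) (.inr 1) (by decide) * sg F (.inl 1) (.inr 2) (by decide) *
    (sg F (.inl 2) (.inr 3) (by decide) * sg F (.inl 2) (.inl 3) (by decide))

theorem g_mem : g F ∈ E (plusForm 4 F) :=
  mul_mem (mul_mem (sg_mem _ _ _) (sg_mem _ _ _)) (mul_mem (sg_mem _ _ _) (sg_mem _ _ _))

theorem g_apply (v : I8 → F) : g F v = (M F).mulVec v := by
  simp only [g, LinearEquiv.mul_apply]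
  rw [sg_mulVec _ _ _ (by decide) (by decide), sg_mulVec _ _ _ (by decide) (by decide),
    sg_mulVec _ _ _ (by decide) (by decide), sg_mulVec _ _ _ (by decide) (by decide)]
  rw [M, ← Matrix.mulVec_mulVec, ← Matrix.mulVec_mulVec, ← Matrix.mulVec_mulVec]
  rfl

theorem g_pow_apply (k : ℕ) (v : I8 → F) : (g F ^ k) v = (M F ^ k).mulVec v := by
  induction k generalizing v with
  | zero => simp
  | succ k ih => rw [pow_succ, LinearEquiv.mul_apply, ih, g_apply, Matrix.mulVec_mulVec, ← pow_succ]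

theorem g_pow_eq_one_iff {p : ℕ} [CharP F p] (k : ℕ) : g F ^ k = 1 ↔ M (ZMod p) ^ k = 1 := by
  rw [← M_pow_eq_one_iff (F := F)]
  constructor
  · intro h
    apply Matrix.mulVec_injective
    funext v
    rw [← g_pow_apply, h, Matrix.one_mulVec]
    rfl
  · intro h
    ext1 v
    rw [g_pow_apply, h, Matrix.one_mulVec]
    rfl

theorem orderOf_g_two [CharP F 2] : orderOf (g F) = 8 := by
  haveI : Fact (Nat.Prime 2) := ⟨Nat.prime_two⟩
  have h := orderOf_eq_prime_pow (p := 2) (n := 2) (x := g F)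
    (by
      rw [g_pow_eq_one_iff (p := 2)]
      change ¬ M (ZMod 2) ^ 4 = 1
      rw [M_two_four]
      exact two4_ne)
    (by
      rw [g_pow_eq_one_iff (p := 2)]
      exact M_two_eight)
  exact h

theorem orderOf_g_five [CharP F 5] : orderOf (g F) = 25 := by
  haveI : Fact (Nat.Prime 5) := ⟨Nat.prime_five⟩
  have h := orderOf_eq_prime_pow (p := 5) (n := 1) (x := g F)
    (by
      rw [g_pow_eq_one_iff (p := 5)]
      change ¬ M (ZMod 5) ^ 5 = 1
      rw [M_five_five]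
      exact five5_ne)
    (by
      rw [g_pow_eq_one_iff (p := 5)]
      exact M_five_last)
  exact h

open Cfsg.Agent.LieClassical.OrthFinite Cfsg.Agent.LieClassical.QuadForms in
/-- an element of `E Q` which is of odd order or in characteristic two keeps its order in `POmega` -/
theorem exists_of_E [Finite F] {ι : Type} [Fintype ι] [DecidableEq ι] {Q : QuadraticForm F (ι → F)} (hG : Good Q)
    (x : (ι → F) ≃ₗ[F] (ι → F)) (hx : x ∈ E Q) (h : (2 : F) = 0 ∨ Odd (orderOf x)) :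
    ∃ y : Cfsg.POmega F ⇑Q, orderOf y = orderOf x := by
  have hd : 5 ≤ Fintype.card ι := by
    have := hG.dim
    rwa [Module.finrank_fintype_fun_eq_card] at this
  let z : Cfsg.Omega F ⇑Q := (oe hG).symm ⟨x, hx⟩
  have hz : orderOf z = orderOf x := by
    rw [MulEquiv.orderOf_eq]
    exact Subgroup.orderOf_mk x hx
  refine ⟨QuotientGroup.mk z, ?_⟩
  rw [← hz]
  rw [orderOf_eq_orderOf_iff]
  intro k
  rw [← QuotientGroup.mk_pow, QuotientGroup.eq_one_iff,
    Cfsg.Agent.LieClassical.OrthCenter.mem_center_omega_iff (Cfsg.Agent.H377.nondegenerate_of_nondeg hG.nondeg) (by omega) hG.sing]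
  have e1 : ∀ w : Cfsg.Omega F ⇑Q,
      (((w : Cfsg.isometryGroup F (⇑Q)) : Matrix.GeneralLinearGroup ι F) : Matrix ι ι F) = 1 ↔ w = 1 := by
    intro w
    constructor
    · intro h
      apply Subtype.ext
      apply Subtype.ext
      apply Units.ext
      exact h
    · rintro rfl
      rfl
  rw [e1]
  constructor
  · rintro (h1 | h1)
    · exact h1
    · rcases h with h | h
      · rw [← e1, h1]
        have h3 : (-1 : F) = 1 := by linear_combination -h
        rw [← one_smul F (1 : Matrix ι ι F), ← neg_smul, h3]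
      · have h2 : (z ^ k) ^ 2 = 1 := by
          rw [← e1]
          change ((((z ^ k : Cfsg.Omega F ⇑Q) : Cfsg.isometryGroup F (⇑Q)) : Matrix.GeneralLinearGroup ι F) :
            Matrix ι ι F) ^ 2 = 1
          rw [h1, neg_one_sq]
        have h3 : (z ^ k) ^ (orderOf z) = 1 := by
          rw [← pow_mul, mul_comm, pow_mul, pow_orderOf_eq_one, one_pow]
        rw [← orderOf_dvd_iff_pow_eq_one] at h2 h3
        rw [← hz] at h
        have h4 : orderOf (z ^ k) ∣ Nat.gcd 2 (orderOf z) := Nat.dvd_gcd h2 h3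
        rw [Nat.coprime_two_left.2 h] at h4
        exact orderOf_eq_one_iff.1 (Nat.dvd_one.1 h4)
  · exact Or.inl

theorem good_plus8 [Finite F] : Good (plusForm 4 F) :=
  Cfsg.Agent.LieClassical.OrthFinite.good_of_finite (nondeg_plusForm 4 F)
    (by rw [Module.finrank_fintype_fun_eq_card]; decide)

/-- **`PΩ₈⁺(2^a)` has an element of order `8`** -/
theorem exists_eight [Finite F] (h2 : (2 : F) = 0) :
    ∃ y : Cfsg.POmega F (Cfsg.quadFormPlus 4 F), orderOf y = 8 := by
  haveI : CharP F 2 := CharTwo.of_one_ne_zero_of_two_eq_zero one_ne_zero h2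
  obtain ⟨y, hy⟩ := exists_of_E (good_plus8 (F := F)) (g F) g_mem (Or.inl h2)
  rw [orderOf_g_two] at hy
  rw [← coe_plusForm]
  exact ⟨y, hy⟩

/-- **`PΩ₈⁺(5^a)` has an element of order `25`** -/
theorem exists_twentyfive [Finite F] [CharP F 5] :
    ∃ y : Cfsg.POmega F (Cfsg.quadFormPlus 4 F), orderOf y = 25 := by
  obtain ⟨y, hy⟩ := exists_of_E (good_plus8 (F := F)) (g F) g_mem
    (Or.inr (by rw [orderOf_g_five]; decide))
  rw [orderOf_g_five] at hy
  rw [← coe_plusForm]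
  exact ⟨y, hy⟩

end

end Cfsg.Agent.H206.RegUni
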