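import Cfsg.Agent.H903.SylSemi
import Cfsg.Agent.H903.SylRegStmt
import Cfsg.Agent.H206.FieldKill

/-!
# The linear row in cross characteristic (helper206, task 609 for S5762)

Tools shared with the other rows: `Semi.mul`, `Semi.inv`, `Semi.pow`, `Semi.unique`, `lp`, `exists_lp`, `exists_pow_comp`
(powers with prescribed companion automorphism).
-/

set_option autoImplicit false

namespace Cfsg.Agent.H206.SepCross

open Cfsg.Agent.H903.SylSemi Cfsg.Agent.H903.SylReg Cfsg.Agent.H206.FieldKill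

section tools

variable {F : Type*} [Field F] {V : Type*} [AddCommGroup V] [Module F V]

theorem semi_mul {y y' : Equiv.Perm V} {θ θ' : F ≃+* F} (h : Semi F y θ) (h' : Semi F y' θ') :
    Semi F (y * y') (θ * θ') := by
  refine ⟨fun u v => ?_, fun a v => ?_⟩
  · rw [Equiv.Perm.mul_apply, Equiv.Perm.mul_apply, Equiv.Perm.mul_apply, h'.1, h.1]
  · rw [Equiv.Perm.mul_apply, Equiv.Perm.mul_apply, h'.2, h.2]
    rfl

theorem semi_one : Semi F (1 : Equiv.Perm V) (1 : F ≃+* F) := ⟨fun _ _ => rfl, fun _ _ => rfl⟩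

theorem semi_pow {y : Equiv.Perm V} {θ : F ≃+* F} (h : Semi F y θ) (n : ℕ) : Semi F (y ^ n) (θ ^ n) := by
  induction n with
  | zero => exact semi_one
  | succ n ih =>
    rw [pow_succ, pow_succ]
    exact semi_mul ih h

theorem semi_inv {y : Equiv.Perm V} {θ : F ≃+* F} (h : Semi F y θ) : Semi F y⁻¹ θ⁻¹ := by
  have e : ∀ v, y (y⁻¹ v) = v := fun v => y.apply_symm_apply v
  refine ⟨fun u v => ?_, fun a v => ?_⟩
  · apply y.injective
    rw [h.1, e, e, e]
  · apply y.injective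
    rw [h.2, e, e]
    congr 1
    exact (θ.apply_symm_apply a).symm

theorem semi_unique [Nontrivial V] {y : Equiv.Perm V} {θ θ' : F ≃+* F} (h : Semi F y θ) (h' : Semi F y θ') :
    θ = θ' := by
  obtain ⟨v, hv⟩ := exists_ne (0 : V)
  have h0 : y 0 = 0 := by
    have := h.1 0 0
    rw [add_zero] at this
    exact left_eq_add.1 this
  have hyv : y v ≠ 0 := by
    intro h1
    rw [← h0] at h1
    exact hv (y.injective h1)
  ext a
  have h1 := (h.2 a v).symm.trans (h'.2 a v)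
  exact smul_left_injective F hyv h1

theorem semi_zero {y : Equiv.Perm V} {θ : F ≃+* F} (h : Semi F y θ) : y 0 = 0 := by
  have := h.1 0 0
  rw [add_zero] at this
  exact left_eq_add.1 this

/-- Linear automorphisms as permutations. -/
def lp (F : Type*) [Field F] (V : Type*) [AddCommGroup V] [Module F V] : (V ≃ₗ[F] V) →* Equiv.Perm V where
  toFun r := r.toEquiv
  map_one' := rfl
  map_mul' _ _ := rfl

theorem lp_apply (r : V ≃ₗ[F] V) (x : V) : lp F V r x = r x := rfl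

theorem lp_injective : Function.Injective (lp F V) := fun _ _ h => LinearEquiv.toEquiv_injective h

theorem exists_lp {y : Equiv.Perm V} (h : Semi F y 1) : ∃ r : V ≃ₗ[F] V, lp F V r = y :=
  ⟨{ y with
      map_add' := h.1
      map_smul' := h.2 }, rfl⟩

theorem lp_smulOfUnit (a : Fˣ) : lp F V (LinearEquiv.smulOfUnit a) = scal F V a := rfl

theorem semi_lp (r : V ≃ₗ[F] V) : Semi F (lp F V r) (1 : F ≃+* F) := ⟨map_add r, fun a v => map_smul r a v⟩

/-- Powers with a prescribed companion automorphism of order `p`. -/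
theorem exists_pow_comp [Finite F] [Nontrivial V] {p : ℕ} [Fact p.Prime] {Γ : Subgroup (Equiv.Perm V)}
    (hΓ : IsPGroup p Γ) {y : Equiv.Perm V} (hy : y ∈ Γ) {θ : F ≃+* F} (hθ : Semi F y θ) (h1 : θ ≠ 1)
    {τ : F ≃+* F} (hτ : orderOf τ = p) : ∃ m : ℕ, Semi F (y ^ m) τ := by
  have hcyc : IsCyclic (F ≃+* F) := isCyclic_aut F
  have hfin : Finite (F ≃+* F) := DFunLike.finite _
  obtain ⟨k, hk⟩ := hΓ ⟨y, hy⟩
  have hk' : y ^ p ^ k = 1 := congrArg Subtype.val hk
  have h2 : θ ^ p ^ k = 1 := by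
    have h3 := semi_pow hθ (p ^ k)
    rw [hk'] at h3
    exact semi_unique h3 semi_one
  obtain ⟨j, -, hj⟩ := (Nat.dvd_prime_pow Fact.out).1 (orderOf_dvd_of_pow_eq_one h2)
  have h3 : p ∣ orderOf θ := by
    rw [hj]
    apply dvd_pow_self
    rintro rfl
    rw [pow_zero, orderOf_eq_one_iff] at hj
    exact h1 hj
  obtain ⟨m, hm⟩ := exists_pow_eq hτ h3
  exact ⟨m, hm ▸ semi_pow hθ m⟩

/-- The companion automorphism of an element of a `p`-group is trivial if there is no automorphism of order `p`. -/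
theorem comp_eq_one [Nontrivial V] [Finite F] {p : ℕ} [Fact p.Prime] {Γ : Subgroup (Equiv.Perm V)}
    (hΓ : IsPGroup p Γ) {y : Equiv.Perm V} (hy : y ∈ Γ) {θ : F ≃+* F} (hθ : Semi F y θ)
    (hno : ∀ τ : F ≃+* F, orderOf τ ≠ p) : θ = 1 := by
  have hfin : Finite (F ≃+* F) := DFunLike.finite _
  obtain ⟨k, hk⟩ := hΓ ⟨y, hy⟩
  have hk' : y ^ p ^ k = 1 := congrArg Subtype.val hk
  have h2 : θ ^ p ^ k = 1 := by
    have h3 := semi_pow hθ (p ^ k)
    rw [hk'] at h3
    exact semi_unique h3 semi_one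
  by_contra h1
  obtain ⟨j, -, hj⟩ := (Nat.dvd_prime_pow Fact.out).1 (orderOf_dvd_of_pow_eq_one h2)
  obtain ⟨j, rfl⟩ : ∃ i, j = i + 1 := by
    rcases j with _ | j
    · rw [pow_zero, orderOf_eq_one_iff] at hj
      exact absurd hj h1
    · exact ⟨j, rfl⟩
  apply hno (θ ^ p ^ j)
  have hp : 0 < p := (Fact.out : p.Prime).pos
  rw [orderOf_pow_of_dvd (pow_ne_zero _ hp.ne') (by rw [hj]; exact pow_dvd_pow _ (by omega)), hj, pow_succ,
    Nat.mul_div_cancel_left _ (pow_pos hp _)]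

end tools

section linear

variable {F : Type*} [Field F] {V : Type*} [AddCommGroup V] [Module F V]

/-- The transvection `x ↦ x + c φ(x) v`. -/
def tv {φ : Module.Dual F V} {v : V} (h : φ v = 0) (c : F) : V ≃ₗ[F] V :=
  LinearEquiv.transvection (f := c • φ) (v := v) (by rw [LinearMap.smul_apply, h, smul_zero])

theorem tv_apply {φ : Module.Dual F V} {v : V} (h : φ v = 0) (c : F) (x : V) :
    tv h c x = x + (c * φ x) • v := rfl

theorem comm_conseq {φ : Module.Dual F V} {v : V} (h : φ v = 0) (hφ : φ ≠ 0) (hv : v ≠ 0) {c : F} (hc : c ≠ 0)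
    {y : Equiv.Perm V} {θ : F ≃+* F} (hy : Semi F y θ) (hg : lp F V (tv h c) * y = y * lp F V (tv h c)) :
    ∃ t : F, t ≠ 0 ∧ y v = t • v ∧ ∀ x, c * φ (y x) = θ c * t * θ (φ x) := by
  have h1 : ∀ x, (c * φ (y x)) • v = θ (c * φ x) • y v := by
    intro x
    have h2 := congrArg (fun z : Equiv.Perm V => z x) hg
    change tv h c (y x) = y (tv h c x) at h2
    rw [tv_apply, tv_apply, hy.1, hy.2] at h2
    exact add_left_cancel h2
  obtain ⟨x₀, hx₀⟩ : ∃ x, φ x = 1 := by
    obtain ⟨x, hx⟩ : ∃ x, φ x ≠ 0 := by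
      by_contra hcon
      push Not at hcon
      exact hφ (LinearMap.ext hcon)
    exact ⟨(φ x)⁻¹ • x, by rw [map_smul, smul_eq_mul, inv_mul_cancel₀ hx]⟩
  have hθc : θ c ≠ 0 := by simpa using hc
  have h3 := h1 x₀
  rw [hx₀, mul_one] at h3
  have hyv : y v = ((θ c)⁻¹ * (c * φ (y x₀))) • v := by
    rw [mul_smul, h3, smul_smul, inv_mul_cancel₀ hθc, one_smul]
  have hyv0 : y v ≠ 0 := by
    intro h4
    rw [← semi_zero hy] at h4
    exact hv (y.injective h4)
  refine ⟨(θ c)⁻¹ * (c * φ (y x₀)), ?_, hyv, fun x => ?_⟩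
  · intro h4
    rw [h4, zero_smul] at hyv
    exact hyv0 hyv
  · have h4 := h1 x
    rw [hyv, smul_smul] at h4
    have h5 := smul_left_injective F hv h4
    beta_reduce at h5
    rw [h5, map_mul]
    ring

theorem key [Finite V] {p : ℕ} [Fact p.Prime] (h3 : 3 ≤ Module.finrank F V) {Γ : Subgroup (Equiv.Perm V)}
    (hΓ : IsPGroup p Γ) (hsc : ∀ a : Fˣ, (∃ k : ℕ, a ^ p ^ k = 1) → scal F V a ∈ Γ)
    {R : Subgroup (V ≃ₗ[F] V)} (hR : ∀ r, r ∈ R ↔ lp F V r ∈ Γ) {v : V} {φ : Module.Dual F V} (hv : v ≠ 0)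
    (hφ : φ ≠ 0) (h : φ v = 0) (hA : Avoid R v) (hD : AvoidDual R φ) {c : F} (hc : c ≠ 0) {y : Equiv.Perm V}
    {θ : F ≃+* F} (hy : y ∈ Γ) (hθ : Semi F y θ) {a : Fˣ}
    (ha : scal F V a * (lp F V (tv h c) * y * (lp F V (tv h c))⁻¹) ∈ Γ) :
    lp F V (tv h c) * y = y * lp F V (tv h c) := by
  have hfin : Module.Finite F V := Module.finite_of_finrank_pos (by omega)
  have eyy : ∀ x, y (y⁻¹ x) = x := fun x => y.apply_symm_apply x
  have eyy' : ∀ x, y⁻¹ (y x) = x := fun x => y.symm_apply_apply x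
  set G : V ≃ₗ[F] V := tv h c with hG
  -- the conjugate functional
  have hinv := semi_inv hθ
  have eθ : ∀ a, θ (θ⁻¹ a) = a := fun a => θ.apply_symm_apply a
  let φ' : Module.Dual F V :=
    { toFun := fun x => θ (φ (y⁻¹ x))
      map_add' := fun x z => by rw [hinv.1, map_add, map_add]
      map_smul' := fun t x => by
        rw [hinv.2, map_smul, smul_eq_mul, map_mul, eθ]
        rfl }
  have hφ' : ∀ x, φ' x = θ (φ (y⁻¹ x)) := fun _ => rfl
  set v' := y v with hv'
  have h' : φ' v' = 0 := by rw [hφ', hv', eyy', h, map_zero]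
  set G' : V ≃ₗ[F] V := tv h' (θ c) with hG'
  have hGG : lp F V G' = y * lp F V G * y⁻¹ := by
    ext x
    change G' x = y (G (y⁻¹ x))
    rw [hG', hG, tv_apply, tv_apply, hθ.1, hθ.2, eyy, hφ', map_mul]
  set Z : V ≃ₗ[F] V := G * G'⁻¹ with hZ
  have hlZ : lp F V Z = lp F V G * y * (lp F V G)⁻¹ * y⁻¹ := by
    rw [hZ, map_mul, map_inv, hGG]
    group
  set w : V ≃ₗ[F] V := LinearEquiv.smulOfUnit a * Z with hw
  have hwΓ : lp F V w ∈ Γ := by
    rw [hw, map_mul, lp_smulOfUnit, hlZ]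
    have := Γ.mul_mem ha (Γ.inv_mem hy)
    rwa [mul_assoc] at this
  -- a fixed vector of `Z`
  obtain ⟨x₀, hx0, hx1, hx2⟩ : ∃ x, x ≠ 0 ∧ φ x = 0 ∧ φ' x = 0 := by
    have h4 : LinearMap.ker (LinearMap.prod φ φ') ≠ ⊥ := by
      apply LinearMap.ker_ne_bot_of_finrank_lt
      rw [Module.finrank_prod, Module.finrank_self]
      omega
    obtain ⟨x, hx, hx0⟩ := Submodule.exists_mem_ne_zero_of_ne_bot h4
    rw [LinearMap.ker_prod, Submodule.mem_inf] at hx
    exact ⟨x, hx0, hx.1, hx.2⟩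
  have hG'x : G' x₀ = x₀ := by rw [hG', tv_apply, hx2, mul_zero, zero_smul, add_zero]
  have hGx : G x₀ = x₀ := by rw [hG, tv_apply, hx1, mul_zero, zero_smul, add_zero]
  have hZx : Z x₀ = x₀ := by
    have h4 : G'⁻¹ x₀ = x₀ := by
      nth_rw 1 [← hG'x]
      exact G'.symm_apply_apply x₀
    change G (G'⁻¹ x₀) = x₀
    rw [h4, hGx]
  have hwx : w x₀ = (a : F) • x₀ := by
    change (LinearEquiv.smulOfUnit a : V ≃ₗ[F] V) (Z x₀) = _
    rw [hZx]
    rfl
  have hwpow : ∀ n : ℕ, (w ^ n) x₀ = ((a : F) ^ n) • x₀ := by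
    intro n
    induction n with
    | zero => rw [pow_zero, pow_zero, one_smul]; rfl
    | succ n ih =>
      rw [pow_succ]
      change (w ^ n) (w x₀) = _
      rw [hwx, map_smul, ih, smul_smul, pow_succ, mul_comm]
  have haΓ : scal F V a ∈ Γ := by
    apply hsc
    obtain ⟨k, hk⟩ := hΓ ⟨_, hwΓ⟩
    refine ⟨k, Units.ext ?_⟩
    have h4 : lp F V (w ^ p ^ k) = 1 := by
      rw [map_pow]
      exact congrArg Subtype.val hk
    have h5 : w ^ p ^ k = 1 := lp_injective (h4.trans (map_one _).symm)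
    have h6 := hwpow (p ^ k)
    rw [h5] at h6
    have h7 : (1 : F) • x₀ = ((a : F) ^ p ^ k) • x₀ := by
      rw [one_smul]
      exact h6
    have h8 := smul_left_injective F hx0 h7
    rw [Units.val_pow_eq_pow_val, Units.val_one]
    exact h8.symm
  have hZR : Z ∈ R := by
    rw [hR]
    have h4 : lp F V Z = (scal F V a)⁻¹ * lp F V w := by
      rw [hw, map_mul (lp F V) (LinearEquiv.smulOfUnit a) Z, lp_smulOfUnit, inv_mul_cancel_left]
    rw [h4]
    exact Γ.mul_mem (Γ.inv_mem haΓ) hwΓ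
  have hdiff : ∀ x, Z (G' x) - G' x = (c * φ x) • v - (θ c * φ' x) • v' := by
    intro x
    have h4 : Z (G' x) = G x := by
      change G (G'⁻¹ (G' x)) = G x
      congr 1
      exact G'.symm_apply_apply x
    rw [h4, hG, hG', tv_apply, tv_apply]
    abel
  have hmem : ∀ x, (c * φ x) • v - (θ c * φ' x) • v' ∈ com Z := by
    intro x
    rw [← hdiff]
    exact ⟨G' x, rfl⟩
  have hle : Module.finrank F (com Z) ≤ 2 := by
    have h4 : com Z ≤ Submodule.span F (Set.range ![v, v']) := by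
      rintro _ ⟨x, rfl⟩
      obtain ⟨x, rfl⟩ := G'.surjective x
      change Z (G' x) - G' x ∈ _
      rw [hdiff]
      exact sub_mem (Submodule.smul_mem _ _ (Submodule.subset_span ⟨0, rfl⟩))
        (Submodule.smul_mem _ _ (Submodule.subset_span ⟨1, rfl⟩))
    calc Module.finrank F (com Z) ≤ Module.finrank F (Submodule.span F (Set.range ![v, v'])) :=
          Submodule.finrank_mono h4
      _ ≤ Fintype.card (Fin 2) := finrank_range_le_card _
      _ = 2 := Fintype.card_fin 2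
  have hfinal : Z = 1 := by
    by_contra hZ1
    have hvn : v ∉ com Z := fun h4 => by
      have := hA Z hZR hZ1 h4
      omega
    have hψn : ¬ ∃ ψ : Module.Dual F V, ∀ x, φ x = ψ (Z x - x) := fun h4 => by
      have := hD Z hZR hZ1 h4
      omega
    by_cases hcase : ∃ u, φ' u = 0 ∧ φ u ≠ 0
    · obtain ⟨u, hu1, hu2⟩ := hcase
      apply hvn
      have h4 := hmem u
      rw [hu1, mul_zero, zero_smul, sub_zero] at h4
      exact (Submodule.smul_mem_iff _ (mul_ne_zero hc hu2)).1 h4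
    · push Not at hcase
      obtain ⟨u₀, hu₀⟩ : ∃ u, φ u ≠ 0 := by
        by_contra hcon
        push Not at hcon
        exact hφ (LinearMap.ext hcon)
      have hu₀' : φ' u₀ ≠ 0 := fun h4 => hu₀ (hcase u₀ h4)
      have hprop : ∀ x, φ x = (φ u₀ / φ' u₀) * φ' x := by
        intro x
        have h4 := hcase (x - (φ' x / φ' u₀) • u₀) (by
          rw [map_sub, map_smul, smul_eq_mul, div_mul_cancel₀ _ hu₀', sub_self])
        rw [map_sub, map_smul, smul_eq_mul, sub_eq_zero] at h4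
        rw [h4]
        ring
      by_cases hsp : v' ∈ Submodule.span F {v}
      · obtain ⟨t, ht⟩ := Submodule.mem_span_singleton.1 hsp
        apply hZ1
        apply LinearEquiv.ext
        intro x
        obtain ⟨x, rfl⟩ := G'.surjective x
        have h4 := hdiff x
        have h5 := hmem x
        rw [← ht, smul_smul, ← sub_smul] at h4 h5
        by_cases h6 : c * φ x - θ c * φ' x * t = 0
        · rw [h6, zero_smul] at h4
          exact sub_eq_zero.1 h4
        · exact absurd ((Submodule.smul_mem_iff _ h6).1 h5) hvn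
      · apply hψn
        have hvs : v ∉ Submodule.span F {v'} := by
          intro h4
          obtain ⟨t, ht⟩ := Submodule.mem_span_singleton.1 h4
          apply hsp
          have ht0 : t ≠ 0 := by
            rintro rfl
            rw [zero_smul] at ht
            exact hv ht.symm
          exact Submodule.mem_span_singleton.2 ⟨t⁻¹, by rw [← ht, smul_smul, inv_mul_cancel₀ ht0, one_smul]⟩
        obtain ⟨f, hf1, hf2⟩ := Submodule.exists_le_ker_of_notMem hvs
        have hf3 : f v' = 0 := hf2 (Submodule.mem_span_singleton_self v')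
        refine ⟨(c⁻¹ * (f v)⁻¹) • f, fun x => ?_⟩
        obtain ⟨x, rfl⟩ := G'.surjective x
        rw [hdiff, LinearMap.smul_apply, map_sub, map_smul, map_smul, hf3, smul_zero, sub_zero, smul_eq_mul,
          smul_eq_mul]
        have h4 : φ (G' x) = φ x := by
          rw [hprop, hprop x, hG', tv_apply, map_add, map_smul, h', smul_zero, add_zero]
        rw [h4]
        field_simp
  rw [hfinal, map_one] at hlZ
  have h4 : lp F V G * y = y * lp F V G := by
    have h5 : lp F V G * y * (lp F V G)⁻¹ * y⁻¹ * y * lp F V G = y * lp F V G := by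
      rw [← hlZ, one_mul]
    rw [inv_mul_cancel_right, inv_mul_cancel_right] at h5
    exact h5
  exact h4

theorem lin_scalar {p : ℕ} [Fact p.Prime] {Γ : Subgroup (Equiv.Perm V)}
    (hΓ : IsPGroup p Γ) (hsc : ∀ a : Fˣ, (∃ k : ℕ, a ^ p ^ k = 1) → scal F V a ∈ Γ)
    {R : Subgroup (V ≃ₗ[F] V)} (hR : ∀ r, r ∈ R ↔ lp F V r ∈ Γ) {v : V} {φ : Module.Dual F V} (hv : v ≠ 0)
    (hφ : φ ≠ 0) (h : φ v = 0) (hreg : ∀ r ∈ R, r v = v → (∀ x, φ (r x) = φ x) → r = 1) {c : F} (hc : c ≠ 0)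
    {y : Equiv.Perm V} (hy : y ∈ Γ) (hθ : Semi F y (1 : F ≃+* F))
    (hg : lp F V (tv h c) * y = y * lp F V (tv h c)) : ∃ b : Fˣ, y = scal F V b := by
  obtain ⟨t, ht0, hyv, hφy⟩ := comm_conseq h hφ hv hc hθ hg
  have hφy' : ∀ x, φ (y x) = t * φ x := by
    intro x
    have h1 := hφy x
    have e : ∀ a : F, (1 : F ≃+* F) a = a := fun _ => rfl
    rw [e, e, mul_assoc] at h1
    exact mul_left_cancel₀ hc h1
  obtain ⟨r, rfl⟩ := exists_lp hθ
  have hpow : ∀ n : ℕ, (r ^ n) v = t ^ n • v := by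
    intro n
    induction n with
    | zero => rw [pow_zero, pow_zero, one_smul]; rfl
    | succ n ih =>
      rw [pow_succ]
      change (r ^ n) (r v) = _
      have h1 : r v = t • v := hyv
      rw [h1, map_smul, ih, smul_smul, pow_succ, mul_comm]
  obtain ⟨k, hk⟩ := hΓ ⟨_, hy⟩
  have h4 : lp F V (r ^ p ^ k) = 1 := by
    rw [map_pow]
    exact congrArg Subtype.val hk
  have h5 : r ^ p ^ k = 1 := lp_injective (h4.trans (map_one _).symm)
  have h6 := hpow (p ^ k)
  rw [h5] at h6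
  have h7 : (1 : F) • v = (t ^ p ^ k) • v := by
    rw [one_smul]
    exact h6
  have h8 : t ^ p ^ k = 1 := (smul_left_injective F hv h7).symm
  set b : Fˣ := Units.mk0 t ht0 with hb
  have hbΓ : scal F V b ∈ Γ := hsc b ⟨k, Units.ext (by rw [Units.val_pow_eq_pow_val, hb, Units.val_mk0, h8]; rfl)⟩
  have hr : LinearEquiv.smulOfUnit b⁻¹ * r ∈ R := by
    rw [hR, map_mul, lp_smulOfUnit, map_inv]
    exact Γ.mul_mem (Γ.inv_mem hbΓ) hy
  have h9 := hreg _ hr (by
    change ((b⁻¹ : Fˣ) : F) • r v = v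
    have h1 : r v = t • v := hyv
    rw [h1, smul_smul, Units.val_inv_eq_inv_val, hb, Units.val_mk0, inv_mul_cancel₀ ht0, one_smul]) (by
    intro x
    change φ (((b⁻¹ : Fˣ) : F) • r x) = φ x
    have h1 : φ (r x) = t * φ x := hφy' x
    rw [map_smul, h1, smul_eq_mul, ← mul_assoc, Units.val_inv_eq_inv_val, hb, Units.val_mk0,
      inv_mul_cancel₀ ht0, one_mul])
  refine ⟨b, ?_⟩
  have h10 : r = LinearEquiv.smulOfUnit b := by
    apply LinearEquiv.ext
    intro x
    have h11 := congrArg (fun z : V ≃ₗ[F] V => z x) h9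
    change ((b⁻¹ : Fˣ) : F) • r x = x at h11
    change r x = (b : F) • x
    have h12 := congrArg (fun z : V => (b : F) • z) h11
    beta_reduce at h12
    rw [smul_smul, Units.val_inv_eq_inv_val, mul_inv_cancel₀ b.ne_zero, one_smul] at h12
    exact h12
  rw [h10, lp_smulOfUnit]

theorem isSL_tv [Finite V] {φ : Module.Dual F V} {v : V} (h : φ v = 0) (c : F) :
    IsSLMap F V (lp F V (tv h c)) := by
  have _ : Module.Finite F V := Module.Finite.of_finite
  refine ⟨LinearMap.transvection (c • φ) v, fun _ => rfl, ?_⟩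
  rw [LinearMap.transvection.det, LinearMap.smul_apply, h, smul_zero, add_zero]

/-- **Task 609.** -/
theorem sepSL_cross {p : ℕ} [Fact p.Prime] (hp : 5 ≤ p) {F : Type*} [Field F] [Finite F] (hpF : (p : F) ≠ 0)
    {V : Type*} [AddCommGroup V] [Module F V] [Finite V] (h3 : 3 ≤ Module.finrank F V)
    (hreg : Cfsg.Agent.H903.SylReg.RegSL p F V) : Cfsg.Agent.H903.SylSemi.SepSL p F V := by
  intro Γ hΓ hY hsc
  have hnt : Nontrivial V := Module.nontrivial_of_finrank_pos (R := F) (by omega)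
  let R : Subgroup (V ≃ₗ[F] V) := Γ.comap (lp F V)
  have hR : ∀ r, r ∈ R ↔ lp F V r ∈ Γ := fun _ => Iff.rfl
  obtain ⟨v, φ, hv, hφ, h, hr, hA, hD⟩ := hreg R (by
    rintro ⟨r, hr⟩
    obtain ⟨k, hk⟩ := hΓ ⟨_, hr⟩
    refine ⟨k, Subtype.ext ?_⟩
    have h4 : lp F V (r ^ p ^ k) = 1 := by
      rw [map_pow]
      exact congrArg Subtype.val hk
    exact lp_injective (h4.trans (map_one _).symm)) (fun a ha => by
    rw [hR, lp_smulOfUnit]
    exact hsc a ha)
  by_contra hcon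
  have main : ∀ c : F, c ≠ 0 → ∃ y ∈ Γ, ∃ θ : F ≃+* F, Semi F y θ ∧ θ ≠ 1 ∧
      lp F V (tv h c) * y = y * lp F V (tv h c) := by
    intro c hc
    by_contra hc2
    apply hcon
    refine ⟨lp F V (tv h c), isSL_tv h c, fun y hy ha => ?_⟩
    obtain ⟨a, ha⟩ := ha
    obtain ⟨θ, hθ⟩ := hY y hy
    have hk := key h3 hΓ hsc hR hv hφ h hA hD hc hy hθ ha
    by_cases h1 : θ = 1
    · subst h1
      exact lin_scalar hΓ hsc hR hv hφ h hr hc hy hθ hk
    · exact absurd ⟨y, hy, θ, hθ, h1, hk⟩ hc2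
  by_cases hno : ∃ τ : F ≃+* F, orderOf τ = p
  · obtain ⟨τ, hτ⟩ := hno
    obtain ⟨u, hu⟩ := field_kill (by omega) hpF τ hτ
    obtain ⟨y₁, hy₁, θ₁, hθ₁, hn₁, hg₁⟩ := main 1 one_ne_zero
    obtain ⟨y₂, hy₂, θ₂, hθ₂, hn₂, hg₂⟩ := main u u.ne_zero
    obtain ⟨m₁, hm₁⟩ := exists_pow_comp hΓ hy₁ hθ₁ hn₁ hτ
    obtain ⟨m₂, hm₂⟩ := exists_pow_comp hΓ hy₂ hθ₂ hn₂ hτ
    have hc₁ : lp F V (tv h 1) * y₁ ^ m₁ = y₁ ^ m₁ * lp F V (tv h 1) := (Commute.pow_right hg₁ m₁)
    have hc₂ : lp F V (tv h (u : F)) * y₂ ^ m₂ = y₂ ^ m₂ * lp F V (tv h (u : F)) := (Commute.pow_right hg₂ m₂)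
    obtain ⟨t₁, ht₁, hv₁, hφ₁⟩ := comm_conseq h hφ hv one_ne_zero hm₁ hc₁
    obtain ⟨t₂, ht₂, hv₂, hφ₂⟩ := comm_conseq h hφ hv u.ne_zero hm₂ hc₂
    set z₁ := y₁ ^ m₁ with hz₁
    set z₂ := y₂ ^ m₂ with hz₂
    have hwΓ : z₂ * z₁⁻¹ ∈ Γ := Γ.mul_mem (Γ.pow_mem hy₂ _) (Γ.inv_mem (Γ.pow_mem hy₁ _))
    have hwS : Semi F (z₂ * z₁⁻¹) (1 : F ≃+* F) := by
      have := semi_mul hm₂ (semi_inv hm₁)
      rwa [mul_inv_cancel] at this
    obtain ⟨w, hw⟩ := exists_lp hwS
    obtain ⟨k, hk⟩ := hΓ ⟨_, hwΓ⟩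
    have h4 : lp F V (w ^ p ^ k) = 1 := by
      rw [map_pow, hw]
      exact congrArg Subtype.val hk
    have h5 : w ^ p ^ k = 1 := lp_injective (h4.trans (map_one _).symm)
    have hw1 : ∀ x, w (z₁ x) = z₂ x := by
      intro x
      have h6 : lp F V w (z₁ x) = (z₂ * z₁⁻¹) (z₁ x) := by rw [hw]
      rw [Equiv.Perm.mul_apply] at h6
      have h7 : z₁⁻¹ (z₁ x) = x := z₁.symm_apply_apply x
      rw [h7] at h6
      exact h6
    have hwv : w v = (t₂ * t₁⁻¹) • v := by
      have h6 := hw1 v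
      rw [hv₁, hv₂, map_smul] at h6
      rw [mul_comm, mul_smul, ← h6, smul_smul, inv_mul_cancel₀ ht₁, one_smul]
    have hu0 := u.ne_zero
    have hwφ : ∀ x, φ (w x) = (τ u / u * (t₂ * t₁⁻¹)) * φ x := by
      intro x
      obtain ⟨x, rfl⟩ := z₁.surjective x
      have h6 := hφ₁ x
      have h7 := hφ₂ x
      rw [hw1]
      rw [one_mul, map_one, one_mul] at h6
      rw [h6]
      have h8 : φ (z₂ x) = (u : F)⁻¹ * (τ u * t₂ * τ (φ x)) := by
        rw [← h7, ← mul_assoc, inv_mul_cancel₀ hu0, one_mul]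
      rw [h8]
      field_simp
    have hpow : ∀ n : ℕ, (w ^ n) v = (t₂ * t₁⁻¹) ^ n • v := by
      intro n
      induction n with
      | zero => rw [pow_zero, pow_zero, one_smul]; rfl
      | succ n ih =>
        rw [pow_succ]
        change (w ^ n) (w v) = _
        rw [hwv, map_smul, ih, smul_smul, pow_succ, mul_comm]
    have hpow2 : ∀ n : ℕ, ∀ x, φ ((w ^ n) x) = (τ u / u * (t₂ * t₁⁻¹)) ^ n * φ x := by
      intro n
      induction n with
      | zero =>
        intro x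
        rw [pow_zero, pow_zero, one_mul]
        rfl
      | succ n ih =>
        intro x
        rw [pow_succ]
        change φ ((w ^ n) (w x)) = _
        rw [ih, hwφ, pow_succ]
        ring
    have e1 : (t₂ * t₁⁻¹) ^ p ^ k = 1 := by
      have h6 := hpow (p ^ k)
      rw [h5] at h6
      have h7 : (1 : F) • v = ((t₂ * t₁⁻¹) ^ p ^ k) • v := by
        rw [one_smul]
        exact h6
      exact (smul_left_injective F hv h7).symm
    have e2 : (τ u / u * (t₂ * t₁⁻¹)) ^ p ^ k = 1 := by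
      obtain ⟨x, hx⟩ : ∃ x, φ x ≠ 0 := by
        by_contra hcon
        push Not at hcon
        exact hφ (LinearMap.ext hcon)
      have h6 := hpow2 (p ^ k) x
      rw [h5] at h6
      have h7 : (1 : F) * φ x = (τ u / u * (t₂ * t₁⁻¹)) ^ p ^ k * φ x := by
        rw [one_mul]
        exact h6
      exact (mul_right_cancel₀ hx h7).symm
    rw [mul_pow, e1, mul_one] at e2
    apply hu k
    rw [← inv_div, inv_pow, e2, inv_one]
  · push Not at hno
    obtain ⟨y, hy, θ, hθ, hn, -⟩ := main 1 one_ne_zero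
    exact hn (comp_eq_one hΓ hy hθ hno)

end linear

end Cfsg.Agent.H206.SepCross
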