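import Cfsg.Agent.S0302
import Cfsg.Agent.H912.BdOrth1
import Cfsg.Agent.S0249
import Cfsg.Agent.H944.TS.Iface

/-!
# `L₄(3) ≤ Ω₇(3)` and `L₃(3) ≤ L₄(3)` (S5741, task 976)
-/

set_option autoImplicit false

namespace Cfsg.Agent.H206.SubO73

open Cfsg Cfsg.Agent.OrdDiv Cfsg.Agent.H944.TS
open Cfsg.Agent.LieClassical Cfsg.Agent.LieClassical.KleinPlus Cfsg.Agent.LieClassical.SixModel
open Cfsg.Agent.LieClassical.KleinSix Cfsg.Agent.LieClassical.ReflGen

universe u

theorem injective_of_simple {S G : Type*} [Group S] [IsSimpleGroup S] [Group G] (f : S →* G) (h : ∃ x, f x ≠ 1) :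
    Function.Injective f := by
  rw [← MonoidHom.ker_eq_bot_iff]
  refine (Subgroup.Normal.eq_bot_or_eq_top (MonoidHom.normal_ker f)).resolve_right fun h1 => ?_
  obtain ⟨x, hx⟩ := h
  exact hx (MonoidHom.mem_ker.1 (h1 ▸ Subgroup.mem_top x))

/-- a homomorphism of a perfect group `P` with `P / Z(P)` simple, trivial on the centre -/
theorem exists_injective {P G : Type*} [Group P] [Group G] [IsSimpleGroup (P ⧸ Subgroup.center P)]
    (f : P →* G) (h1 : Subgroup.center P ≤ f.ker) (h2 : ∃ x, f x ≠ 1) :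
    ∃ g : P ⧸ Subgroup.center P →* G, Function.Injective g := by
  refine ⟨QuotientGroup.lift _ f h1, injective_of_simple _ ?_⟩
  obtain ⟨x, hx⟩ := h2
  exact ⟨QuotientGroup.mk x, hx⟩

theorem exists_injective_comm {P O G : Type*} [Group P] [Group O] [Group G] [IsSimpleGroup (P ⧸ Subgroup.center P)]
    (hp : commutator P = ⊤) (φ : P →* O) (h1 : Subgroup.center P ≤ φ.ker) (h2 : φ.ker ≤ Subgroup.center P)
    (f : commutator O →* G) (hf : f.ker ≤ Subgroup.center _) :
    ∃ g : P ⧸ Subgroup.center P →* G, Function.Injective g := by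
  have hmem : ∀ x : P, φ x ∈ commutator O := by
    intro x
    have h3 : φ x ∈ (commutator P).map φ := Subgroup.mem_map_of_mem φ (hp ▸ Subgroup.mem_top x)
    rw [commutator_def, Subgroup.map_commutator] at h3
    exact Subgroup.commutator_mono le_top le_top h3
  let φ' : P →* commutator O := φ.codRestrict _ hmem
  refine exists_injective (f.comp φ') ?_ ?_
  · intro x hx
    rw [MonoidHom.mem_ker, MonoidHom.comp_apply]
    have h3 : φ' x = 1 := Subtype.ext (MonoidHom.mem_ker.1 (h1 hx))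
    rw [h3, map_one]
  · by_contra hcon
    push Not at hcon
    have h3 : commutator P ≤ φ.ker := by
      rw [commutator_def, Subgroup.commutator_le]
      intro x _ y _
      have h4 : φ' x ∈ Subgroup.center _ := hf (MonoidHom.mem_ker.2 (hcon x))
      have h5 := Subgroup.mem_center_iff.1 h4 (φ' y)
      have h6 : φ y * φ x = φ x * φ y := congrArg Subtype.val h5
      rw [MonoidHom.mem_ker, map_commutatorElement]
      exact commutatorElement_eq_one_iff_mul_comm.2 h6.symm
    have h4 : Subgroup.center P = ⊤ := top_le_iff.1 (hp ▸ h3.trans h2)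
    obtain ⟨x, y, hxy⟩ := exists_pair_ne (P ⧸ Subgroup.center P)
    obtain ⟨x, rfl⟩ := QuotientGroup.mk_surjective x
    obtain ⟨y, rfl⟩ := QuotientGroup.mk_surjective y
    exact hxy (QuotientGroup.eq.2 (h4 ▸ Subgroup.mem_top _))

theorem mem_ker_phi {F : Type*} [Field F] {r : F} (hr : r ^ 2 = 1) {g : Matrix.SpecialLinearGroup (Fin 4) F}
    (hg : (Matrix.scalar (Fin 4)) r = (g : Matrix (Fin 4) (Fin 4) F)) : g ∈ (phi (F := F)).ker := by
  rw [MonoidHom.mem_ker]
  apply Subtype.ext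
  apply LinearEquiv.ext
  intro v
  rw [phi_apply]
  apply sk_injective
  rw [sk_act, ← hg]
  change _ = sk v
  rw [Matrix.scalar_apply, Matrix.diagonal_transpose, ← Matrix.smul_one_eq_diagonal, Matrix.smul_mul, Matrix.one_mul,
    Matrix.mul_smul, Matrix.mul_one, smul_smul, ← sq, hr, one_smul]

theorem X1 : Sub.{u} (.oodd 3 3) (.psl 4 3) := by
  rintro X _ ⟨F, i1, i2, hF, ⟨e⟩⟩
  have hs : IsSimpleGroup (Matrix.ProjectiveSpecialLinearGroup (Fin 4) F) := Cfsg.Agent.S0249.result 4 (by norm_num)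
  have hs' : IsSimpleGroup (Matrix.SpecialLinearGroup (Fin 4) F ⧸ Subgroup.center (Matrix.SpecialLinearGroup (Fin 4) F)) := hs
  have hperf : commutator (Matrix.SpecialLinearGroup (Fin 4) F) = ⊤ := SLGen.commutator_eq_top (by simp)
  obtain ⟨f, hf⟩ := Cfsg.Agent.H912.Bd.exists_odd (K := F) (m := 3) (n := 3) le_rfl
  let e₀ : Cfsg.isometryGroup F (Cfsg.quadFormPlus 3 F) ≃* orth (Cfsg.quadFormPlus 3 F) := isometryEquiv _
  have hQ : (plusForm F : (Fin 3 ⊕ Fin 3 → F) → F) = Cfsg.quadFormPlus 3 F := coe_plusForm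
  obtain ⟨φ, hφ⟩ : ∃ φ : Matrix.SpecialLinearGroup (Fin 4) F →* Cfsg.isometryGroup F (Cfsg.quadFormPlus 3 F),
      φ.ker = (phi (F := F)).ker := by
    let e₁ : orth (plusForm F : (Fin 3 ⊕ Fin 3 → F) → F) ≃* orth (Cfsg.quadFormPlus 3 F) :=
      MulEquiv.subgroupCongr (by rw [hQ])
    refine ⟨(e₁.trans e₀.symm).toMonoidHom.comp phi, ?_⟩
    ext x
    rw [MonoidHom.mem_ker, MonoidHom.mem_ker, MonoidHom.comp_apply]
    exact (e₁.trans e₀.symm).map_eq_one_iff
  have hc : Subgroup.center (Matrix.SpecialLinearGroup (Fin 4) F) ≤ φ.ker := by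
    intro g hg
    rw [hφ]
    obtain ⟨r, hr, h1⟩ := Matrix.SpecialLinearGroup.mem_center_iff.1 hg
    refine mem_ker_phi (r := r) ?_ h1
    rw [Fintype.card_fin] at hr
    have h3 := FiniteField.pow_card r
    rw [hF] at h3
    have h4 : r * r ^ 3 = r * r := by rw [h3]
    rw [← sq, ← pow_succ', hr] at h4
    exact h4.symm
  obtain ⟨g, hg⟩ := exists_injective_comm hperf φ hc (hφ ▸ ker_le) f hf
  have hinj : Function.Injective (e.symm.toMonoidHom.comp g) := e.symm.injective.comp hg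
  exact ⟨(e.symm.toMonoidHom.comp g).range, F, i1, i2, hF, ⟨(MonoidHom.ofInjective hinj).symm⟩⟩

/-- `A ↦ diag(A, 1)` -/
def emb (F : Type*) [Field F] : Matrix.SpecialLinearGroup (Fin 3) F →* Matrix.SpecialLinearGroup (Fin 4) F where
  toFun A := ⟨Matrix.reindex (finSumFinEquiv (m := 3) (n := 1)) (finSumFinEquiv (m := 3) (n := 1))
    (Matrix.fromBlocks (A : Matrix (Fin 3) (Fin 3) F) 0 0 1), by
      rw [Matrix.det_reindex_self, Matrix.det_fromBlocks_zero₂₁, A.2, Matrix.det_one, one_mul]⟩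
  map_one' := by
    apply Subtype.ext
    change Matrix.reindex _ _ (Matrix.fromBlocks (1 : Matrix (Fin 3) (Fin 3) F) 0 0 1) = 1
    rw [Matrix.fromBlocks_one, Matrix.reindex_apply, Matrix.submatrix_one_equiv]
  map_mul' A B := by
    apply Subtype.ext
    change Matrix.reindex _ _ (Matrix.fromBlocks ((A : Matrix (Fin 3) (Fin 3) F) * (B : Matrix (Fin 3) (Fin 3) F)) 0 0 1) =
      Matrix.reindex _ _ (Matrix.fromBlocks (A : Matrix (Fin 3) (Fin 3) F) 0 0 1) *
      Matrix.reindex _ _ (Matrix.fromBlocks (B : Matrix (Fin 3) (Fin 3) F) 0 0 1)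
    rw [Matrix.reindex_apply, Matrix.reindex_apply, Matrix.reindex_apply, Matrix.submatrix_mul_equiv,
      Matrix.fromBlocks_multiply]
    simp

theorem emb_apply {F : Type*} [Field F] (A : Matrix.SpecialLinearGroup (Fin 3) F) (i j : Fin 3) :
    ((emb F A : Matrix.SpecialLinearGroup (Fin 4) F) : Matrix (Fin 4) (Fin 4) F) i.castSucc j.castSucc =
      (A : Matrix (Fin 3) (Fin 3) F) i j := by
  fin_cases i <;> fin_cases j <;> rfl

theorem emb_apply_last {F : Type*} [Field F] (A : Matrix.SpecialLinearGroup (Fin 3) F) :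
    ((emb F A : Matrix.SpecialLinearGroup (Fin 4) F) : Matrix (Fin 4) (Fin 4) F) 3 3 = 1 := rfl

theorem X2 : Sub.{u} (.psl 4 3) (.psl 3 3) := by
  rintro X _ ⟨F, i1, i2, hF, ⟨e⟩⟩
  have hs : IsSimpleGroup (Matrix.ProjectiveSpecialLinearGroup (Fin 3) F) := Cfsg.Agent.S0249.result 3 (by norm_num)
  have hs' : IsSimpleGroup (Matrix.SpecialLinearGroup (Fin 3) F ⧸ Subgroup.center (Matrix.SpecialLinearGroup (Fin 3) F)) := hs
  let q : Matrix.SpecialLinearGroup (Fin 4) F →* Matrix.ProjectiveSpecialLinearGroup (Fin 4) F := QuotientGroup.mk' _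
  have hker : ∀ A : Matrix.SpecialLinearGroup (Fin 3) F, (q.comp (emb F)) A = 1 → A = 1 := by
    intro A hA
    have h1 : emb F A ∈ Subgroup.center (Matrix.SpecialLinearGroup (Fin 4) F) := (QuotientGroup.eq_one_iff _).1 hA
    obtain ⟨r, -, h2⟩ := Matrix.SpecialLinearGroup.mem_center_iff.1 h1
    have h3 : r = 1 := by
      have := congrFun (congrFun h2 3) 3
      rw [emb_apply_last] at this
      simpa using this
    subst h3
    ext i j
    rw [← emb_apply A i j, ← h2]
    simp [Matrix.one_apply]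
  have hc : Subgroup.center (Matrix.SpecialLinearGroup (Fin 3) F) ≤ (q.comp (emb F)).ker := by
    intro g hg
    obtain ⟨r, hr, h1⟩ := Matrix.SpecialLinearGroup.mem_center_iff.1 hg
    rw [Fintype.card_fin] at hr
    have h3 := FiniteField.pow_card r
    rw [hF, hr] at h3
    subst h3
    have h4 : g = 1 := Subtype.ext (by rw [← h1, map_one]; rfl)
    rw [h4]
    exact Subgroup.one_mem _
  obtain ⟨g, hg⟩ := exists_injective (q.comp (emb F)) hc (by
    by_contra hcon
    push Not at hcon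
    obtain ⟨x, y, hxy⟩ := exists_pair_ne (Matrix.SpecialLinearGroup (Fin 3) F ⧸ Subgroup.center (Matrix.SpecialLinearGroup (Fin 3) F))
    obtain ⟨x, rfl⟩ := QuotientGroup.mk_surjective x
    obtain ⟨y, rfl⟩ := QuotientGroup.mk_surjective y
    rw [hker x (hcon x), hker y (hcon y)] at hxy
    exact hxy rfl)
  have hinj : Function.Injective (e.symm.toMonoidHom.comp g) := e.symm.injective.comp hg
  exact ⟨(e.symm.toMonoidHom.comp g).range, F, i1, i2, hF, ⟨(MonoidHom.ofInjective hinj).symm⟩⟩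

end Cfsg.Agent.H206.SubO73
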