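import Mathlib

/-!
# Non-conjugate `p`-singular elements of `PSL_n(q)`, `n ≥ 4`: framework and unipotent elements

For task 800 (S4895): conjugacy in `PSL_n(F)` is similarity up to a scalar `z` with `z ^ n = 1`.
-/

set_option autoImplicit false

namespace Cfsg.Agent.H206.ZPsl

open Matrix Polynomial

variable {F : Type*} [Field F] {n : ℕ}

/-- similarity up to a scalar of `SL_n` -/
def Sim (a b : Matrix (Fin n) (Fin n) F) : Prop :=
  ∃ (z : F) (u : (Matrix (Fin n) (Fin n) F)ˣ), z ^ n = 1 ∧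
    a = z • ((u : Matrix (Fin n) (Fin n) F) * b * ((u⁻¹ : (Matrix (Fin n) (Fin n) F)ˣ) : Matrix (Fin n) (Fin n) F))

/-- the image in `PSL` -/
abbrev mk (g : Matrix.SpecialLinearGroup (Fin n) F) : ProjectiveSpecialLinearGroup (Fin n) F := QuotientGroup.mk g

/-- the unit of a matrix of determinant one -/
def toU (g : Matrix.SpecialLinearGroup (Fin n) F) : (Matrix (Fin n) (Fin n) F)ˣ where
  val := g.1
  inv := (g⁻¹).1
  val_inv := by
    have h := congrArg (fun x : Matrix.SpecialLinearGroup (Fin n) F => (x : Matrix (Fin n) (Fin n) F)) (mul_inv_cancel g)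
    exact h
  inv_val := by
    have h := congrArg (fun x : Matrix.SpecialLinearGroup (Fin n) F => (x : Matrix (Fin n) (Fin n) F)) (inv_mul_cancel g)
    exact h

theorem sim_of_isConj {g g' : Matrix.SpecialLinearGroup (Fin n) F} (h : IsConj (mk g) (mk g')) :
    Sim (g : Matrix (Fin n) (Fin n) F) (g' : Matrix (Fin n) (Fin n) F) := by
  obtain ⟨c, hc⟩ := isConj_iff.1 h.symm
  obtain ⟨c, rfl⟩ := QuotientGroup.mk_surjective c
  have h1 : (QuotientGroup.mk (c * g' * c⁻¹) : ProjectiveSpecialLinearGroup (Fin n) F) = QuotientGroup.mk g := hc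
  rw [QuotientGroup.eq, Matrix.SpecialLinearGroup.mem_center_iff] at h1
  obtain ⟨r, hr, h2⟩ := h1
  rw [Fintype.card_fin] at hr
  refine ⟨r, toU c, hr, ?_⟩
  have h3 : (g : Matrix (Fin n) (Fin n) F) = ((c * g' * c⁻¹ : Matrix.SpecialLinearGroup (Fin n) F) : Matrix (Fin n) (Fin n) F) *
      (((c * g' * c⁻¹)⁻¹ * g : Matrix.SpecialLinearGroup (Fin n) F) : Matrix (Fin n) (Fin n) F) := by
    rw [← Matrix.SpecialLinearGroup.coe_mul, mul_inv_cancel_left]
  rw [h3, ← h2, Matrix.SpecialLinearGroup.coe_mul, Matrix.SpecialLinearGroup.coe_mul, scalar_apply, ← smul_one_eq_diagonal,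
    mul_smul_comm, mul_one]
  rfl

theorem mk_pow_eq_one {g : Matrix.SpecialLinearGroup (Fin n) F} {m : ℕ} (h : (mk g) ^ m = 1) :
    ∃ z : F, z ≠ 0 ∧ (g : Matrix (Fin n) (Fin n) F) ^ m = z • 1 := by
  rcases n with _ | n
  · exact ⟨1, one_ne_zero, by ext i; exact i.elim0⟩
  have h1 : (QuotientGroup.mk (g ^ m) : ProjectiveSpecialLinearGroup (Fin (n + 1)) F) = 1 := h
  rw [QuotientGroup.eq_one_iff, Matrix.SpecialLinearGroup.mem_center_iff] at h1
  obtain ⟨r, hr, h2⟩ := h1
  refine ⟨r, ?_, ?_⟩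
  · rintro rfl
    rw [Fintype.card_fin, zero_pow (Nat.succ_ne_zero n)] at hr
    exact zero_ne_one hr
  · rw [← Matrix.SpecialLinearGroup.coe_pow, ← h2, scalar_apply, ← smul_one_eq_diagonal]

/-- `p`-singularity in `PSL` -/
theorem dvd_orderOf {p : ℕ} [CharP F p] {g : Matrix.SpecialLinearGroup (Fin n) F}
    (h : ∀ m : ℕ, ∀ z : F, z ≠ 0 → (g : Matrix (Fin n) (Fin n) F) ^ m = z • 1 → (m : F) = 0) :
    p ∣ orderOf (mk g) := by
  obtain ⟨z, hz, h1⟩ := mk_pow_eq_one (pow_orderOf_eq_one (mk g))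
  exact (CharP.cast_eq_zero_iff F p _).1 (h _ z hz h1)

/-- an eigenvalue which is not semisimple -/
theorem cast_eq_zero_of_vec {a : Matrix (Fin n) (Fin n) F} {b : F} (hb : b ≠ 0) {v w : Fin n → F} (hv : a *ᵥ v = b • v + w)
    (hw : a *ᵥ w = b • w) (hw0 : w ≠ 0) {m : ℕ} {z : F} (h : a ^ m = z • 1) : (m : F) = 0 := by
  have h1 : ∀ k : ℕ, a ^ k *ᵥ w = b ^ k • w := by
    intro k
    induction k with
    | zero => simp
    | succ k ih => rw [pow_succ, ← mulVec_mulVec, hw, mulVec_smul, ih, smul_smul, pow_succ, mul_comm]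
  have h2 : ∀ k : ℕ, b • (a ^ k *ᵥ v) = (b ^ (k + 1)) • v + ((k : F) * b ^ k) • w := by
    intro k
    induction k with
    | zero => simp
    | succ k ih =>
      rw [pow_succ, ← mulVec_mulVec, hv, mulVec_add, mulVec_smul, h1, smul_add, ih, smul_add, smul_smul, smul_smul,
        smul_smul, add_assoc, ← add_smul]
      congr 2
      · ring
      · push_cast
        ring
  have h3 := h1 m
  rw [h, smul_mulVec, one_mulVec] at h3
  have h4 : z = b ^ m := smul_left_injective F hw0 h3
  have h5 := h2 m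
  rw [h, smul_mulVec, one_mulVec, h4, smul_smul, pow_succ', left_eq_add, smul_eq_zero] at h5
  rcases h5 with h5 | h5
  · exact (mul_eq_zero.1 h5).resolve_right (pow_ne_zero _ hb)
  · exact absurd h5 hw0

/-! ### invariants -/

theorem charpoly_conj (u : (Matrix (Fin n) (Fin n) F)ˣ) (b : Matrix (Fin n) (Fin n) F) :
    ((u : Matrix (Fin n) (Fin n) F) * b * ((u⁻¹ : (Matrix (Fin n) (Fin n) F)ˣ) : Matrix (Fin n) (Fin n) F)).charpoly =
      b.charpoly := by
  rw [coe_units_inv]
  exact charpoly_units_conj u b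

theorem Sim.charpoly_eq {a b : Matrix (Fin n) (Fin n) F} (h : Sim a b) :
    ∃ z : F, z ^ n = 1 ∧ a.charpoly = (z • b).charpoly := by
  obtain ⟨z, u, hz, rfl⟩ := h
  refine ⟨z, hz, ?_⟩
  rw [← charpoly_conj u (z • b), mul_smul_comm, smul_mul_assoc]

/-- a plain similarity -/
def Sim1 (a b : Matrix (Fin n) (Fin n) F) : Prop :=
  ∃ (u : (Matrix (Fin n) (Fin n) F)ˣ),
    a = (u : Matrix (Fin n) (Fin n) F) * b * ((u⁻¹ : (Matrix (Fin n) (Fin n) F)ˣ) : Matrix (Fin n) (Fin n) F)

theorem Sim1.charpoly_eq {a b : Matrix (Fin n) (Fin n) F} (h : Sim1 a b) : a.charpoly = b.charpoly := by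
  obtain ⟨u, rfl⟩ := h
  exact charpoly_conj u b

theorem Sim1.trace_eq {a b : Matrix (Fin n) (Fin n) F} (h : Sim1 a b) : a.trace = b.trace := by
  obtain ⟨u, rfl⟩ := h
  rw [trace_mul_comm, ← mul_assoc, Units.inv_mul, one_mul]

theorem Sim1.sub_one {a b : Matrix (Fin n) (Fin n) F} (h : Sim1 a b) : Sim1 (a - 1) (b - 1) := by
  obtain ⟨u, rfl⟩ := h
  refine ⟨u, ?_⟩
  rw [mul_sub, sub_mul, mul_one, Units.mul_inv]

theorem Sim1.mul_self {a b : Matrix (Fin n) (Fin n) F} (h : Sim1 a b) : Sim1 (a * a) (b * b) := by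
  obtain ⟨u, rfl⟩ := h
  refine ⟨u, ?_⟩
  simp only [mul_assoc, Units.inv_mul_cancel_left]

theorem Sim1.rank_eq {a b : Matrix (Fin n) (Fin n) F} (h : Sim1 a b) : a.rank = b.rank := by
  obtain ⟨u, rfl⟩ := h
  rw [rank_mul_eq_left_of_isUnit_det _ _ ((isUnit_iff_isUnit_det _).1 (u⁻¹).isUnit),
    rank_mul_eq_right_of_isUnit_det _ _ ((isUnit_iff_isUnit_det _).1 u.isUnit)]

/-! ### unipotent elements -/

/-- `1` at the places `(i, i + k)`, `i ∈ T` -/
def P (F : Type*) [Field F] (n k : ℕ) (T : Finset ℕ) : Matrix (Fin n) (Fin n) F :=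
  fun i j => if (j : ℕ) = i + k ∧ (i : ℕ) ∈ T then 1 else 0

theorem rank_P {k : ℕ} {T : Finset ℕ} (hT : ∀ i ∈ T, i + k < n) : (P F n k T).rank = T.card := by
  let L : Matrix (Fin n) T F := fun i t => if (i : ℕ) = t then 1 else 0
  let R : Matrix T (Fin n) F := fun t j => if (j : ℕ) = t + k then 1 else 0
  have h1 : P F n k T = L * R := by
    ext i j
    rw [mul_apply]
    by_cases hi : (i : ℕ) ∈ T
    · rw [Finset.sum_eq_single (⟨i, hi⟩ : T)]
      · simp only [P, L, R, hi, and_true, if_true, one_mul]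
      · intro t _ ht
        have : (i : ℕ) ≠ t := fun h => ht (Subtype.ext h.symm)
        simp only [L, this, if_false, zero_mul]
      · intro h
        exact absurd (Finset.mem_univ _) h
    · rw [Finset.sum_eq_zero]
      · simp only [P, hi, and_false, if_false]
      · intro t _
        have : (i : ℕ) ≠ t := fun h => hi (h ▸ t.2)
        simp only [L, this, if_false, zero_mul]
  let L' : Matrix T (Fin n) F := fun t i => if (i : ℕ) = t then 1 else 0
  let R' : Matrix (Fin n) T F := fun j t => if (j : ℕ) = t + k then 1 else 0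
  have h2 : L' * P F n k T * R' = 1 := by
    have e1 : L' * P F n k T = R := by
      ext t j
      have ht := hT t t.2
      rw [mul_apply, Finset.sum_eq_single (⟨t, by omega⟩ : Fin n)]
      · simp only [L', P, R, if_true, one_mul, t.2, and_true]
      · intro i _ hi
        have : (i : ℕ) ≠ t := fun h => hi (Fin.ext h)
        simp only [L', this, if_false, zero_mul]
      · intro h
        exact absurd (Finset.mem_univ _) h
    rw [e1]
    ext s t
    have ht := hT t t.2
    rw [mul_apply, Finset.sum_eq_single (⟨t + k, ht⟩ : Fin n)]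
    · simp only [R, R', if_true, mul_one, one_apply]
      by_cases hst : s = t
      · subst hst
        simp
      · have : (t : ℕ) + k ≠ s + k := fun h => hst (Subtype.ext (by omega))
        rw [if_neg this, if_neg hst]
    · intro i _ hi
      have : (i : ℕ) ≠ t + k := fun h => hi (Fin.ext h)
      simp only [R', this, if_false, mul_zero]
    · intro h
      exact absurd (Finset.mem_univ _) h
  apply le_antisymm
  · rw [h1]
    have := (rank_mul_le_left L R).trans (rank_le_card_width L)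
    rwa [Fintype.card_coe] at this
  · have h3 := (rank_mul_le_left (L' * P F n k T) R').trans (rank_mul_le_right L' (P F n k T))
    rwa [h2, rank_one, Fintype.card_coe] at h3

theorem P_mul_P {S : Finset ℕ} : P F n 1 S * P F n 1 S = P F n 2 (S.filter fun i => i + 1 ∈ S) := by
  ext i j
  rw [mul_apply]
  by_cases hi : (i : ℕ) + 1 < n
  · rw [Finset.sum_eq_single (⟨i + 1, hi⟩ : Fin n)]
    · simp only [P, Finset.mem_filter, mul_ite, mul_one, mul_zero, true_and]
      split_ifs with h1 h2 h3 h4 h5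
      all_goals first | rfl | (exfalso; simp_all)
    · intro t _ ht
      have : (t : ℕ) ≠ i + 1 := fun h => ht (Fin.ext h)
      simp only [P, this, false_and, if_false, zero_mul]
    · intro h
      exact absurd (Finset.mem_univ _) h
  · rw [Finset.sum_eq_zero]
    · have : (j : ℕ) ≠ i + 2 := by omega
      simp only [P, this, false_and, if_false]
    · intro t _
      have : (t : ℕ) ≠ i + 1 := by omega
      simp only [P, this, false_and, if_false, zero_mul]

/-- unipotent elements -/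
def U (F : Type*) [Field F] (n : ℕ) (S : Finset ℕ) : Matrix (Fin n) (Fin n) F := 1 + P F n 1 S

theorem U_apply_self (S : Finset ℕ) (i : Fin n) : U F n S i i = 1 := by
  simp [U, P]

theorem U_upper (S : Finset ℕ) : (U F n S).IsUpperTriangular := by
  intro i j hij
  have h : (j : ℕ) < i := hij
  have h1 : i ≠ j := fun h2 => by subst h2; exact lt_irrefl _ h
  have h2 : (j : ℕ) ≠ i + 1 := by omega
  simp [U, P, h1, h2]

theorem det_U (S : Finset ℕ) : (U F n S).det = 1 := by
  rw [det_of_isUpperTriangular (U_upper S)]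
  exact Finset.prod_eq_one fun i _ => U_apply_self S i

/-- as an element of `SL` -/
def uE (F : Type*) [Field F] (n : ℕ) (S : Finset ℕ) : Matrix.SpecialLinearGroup (Fin n) F := ⟨U F n S, det_U S⟩

theorem charpoly_smul_U (S : Finset ℕ) (z : F) : (z • U F n S).charpoly = (X - C z) ^ n := by
  rw [charpoly_of_isUpperTriangular _ (by
    intro i j hij
    rw [Matrix.smul_apply, U_upper S hij, smul_zero])]
  simp only [Matrix.smul_apply, U_apply_self, smul_eq_mul, mul_one, Finset.prod_const, Finset.card_univ, Fintype.card_fin]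

theorem charpoly_U (S : Finset ℕ) : (U F n S).charpoly = (X - C 1) ^ n := by
  have := charpoly_smul_U (n := n) S (1 : F)
  rwa [one_smul] at this

theorem U_sub_one (S : Finset ℕ) : U F n S - 1 = P F n 1 S := by
  rw [U, add_sub_cancel_left]

/-- a matrix similar up to a scalar to a unipotent one, having `1` as an eigenvalue, is unipotent -/
theorem Sim.sim1_of_eval {a b : Matrix (Fin n) (Fin n) F} (h : Sim a b) (ha : ∀ z : F, z ≠ 0 → z ^ n = 1 →
    a.charpoly = (z • b).charpoly → z = 1) (hn : n ≠ 0) : Sim1 a b := by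
  obtain ⟨z, u, hz, hab⟩ := h
  have hz0 : z ≠ 0 := by
    rintro rfl
    rw [zero_pow hn] at hz
    exact zero_ne_one hz
  have h1 : z = 1 := ha z hz0 hz (by
    rw [hab, ← charpoly_conj u (z • b), mul_smul_comm, smul_mul_assoc])
  subst h1
  exact ⟨u, by rw [hab, one_smul]⟩

/-- unipotent against a matrix with eigenvalue one -/
theorem Sim.sim1_U {S : Finset ℕ} {b : Matrix (Fin n) (Fin n) F} (hn : n ≠ 0) (h : Sim (U F n S) b)
    (hb : ∀ z : F, (z • b).charpoly.eval z = 0) : Sim1 (U F n S) b := by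
  refine h.sim1_of_eval (fun z _ _ h1 => ?_) hn
  have h2 := congrArg (Polynomial.eval z) h1
  rw [hb, charpoly_U, eval_pow, eval_sub, eval_X, eval_C] at h2
  exact sub_eq_zero.1 (pow_eq_zero_iff hn |>.1 h2)

theorem eval_charpoly_smul_U (hn : n ≠ 0) (S : Finset ℕ) (z : F) : (z • U F n S).charpoly.eval z = 0 := by
  rw [charpoly_smul_U, eval_pow, eval_sub, eval_X, eval_C, sub_self, zero_pow hn]

/-- the invariants of the unipotent elements -/
theorem inv_of_sim_U {S S' : Finset ℕ} (hn : n ≠ 0) (hS : ∀ i ∈ S, i + 1 < n) (hS' : ∀ i ∈ S', i + 1 < n)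
    (h : Sim (U F n S) (U F n S')) :
    S.card = S'.card ∧ (S.filter fun i => i + 1 ∈ S).card = (S'.filter fun i => i + 1 ∈ S').card := by
  have h1 := (h.sim1_U hn (eval_charpoly_smul_U hn S')).sub_one
  rw [U_sub_one, U_sub_one] at h1
  have h2 := h1.mul_self
  rw [P_mul_P, P_mul_P] at h2
  have h3 := h1.rank_eq
  have h4 := h2.rank_eq
  rw [rank_P hS, rank_P hS'] at h3
  rw [rank_P, rank_P] at h4
  · exact ⟨h3, h4⟩
  · intro i hi
    have := hS' _ (Finset.mem_filter.1 hi).2
    omega
  · intro i hi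
    have := hS _ (Finset.mem_filter.1 hi).2
    omega

/-- `p`-singularity of the unipotent elements -/
theorem singular_U {S : Finset ℕ} (hS : ∀ i ∈ S, i + 1 < n) (hne : S.Nonempty) {m : ℕ} {z : F}
    (h : (U F n S) ^ m = z • 1) : (m : F) = 0 := by
  -- the smallest element `i` of `S`: `U e_{i+1} = e_{i+1} + e_i`, `U e_i = e_i`
  set i := S.min' hne with hi
  have hiS : i ∈ S := S.min'_mem hne
  have hin := hS i hiS
  let e0 : Fin n := ⟨i, by omega⟩
  let e1 : Fin n := ⟨i + 1, hin⟩
  refine cast_eq_zero_of_vec (a := U F n S) (b := 1) one_ne_zero (v := Pi.single e1 1) (w := Pi.single e0 1) ?_ ?_ ?_ h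
  · ext j
    rw [mulVec_single_one, one_smul, Pi.add_apply]
    have hU : (U F n S).col e1 j = (if j = e1 then 1 else 0) + (if (e1 : ℕ) = j + 1 ∧ (j : ℕ) ∈ S then 1 else 0) := rfl
    rw [hU, Pi.single_apply, Pi.single_apply]
    congr 1
    by_cases hj : j = e0
    · subst hj
      simp [e0, e1, hiS]
    · have : ¬ ((e1 : ℕ) = j + 1 ∧ (j : ℕ) ∈ S) := by
        rintro ⟨h1, -⟩
        apply hj
        apply Fin.ext
        simp only [e1, e0] at h1 ⊢
        omega
      rw [if_neg this, if_neg hj]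
  · ext j
    rw [mulVec_single_one, one_smul]
    have hU : (U F n S).col e0 j = (if j = e0 then 1 else 0) + (if (e0 : ℕ) = j + 1 ∧ (j : ℕ) ∈ S then 1 else 0) := rfl
    rw [hU, Pi.single_apply]
    have : ¬ ((e0 : ℕ) = j + 1 ∧ (j : ℕ) ∈ S) := by
      rintro ⟨h1, h2⟩
      have h3 := S.min'_le _ h2
      simp only [e0] at h1
      omega
    rw [if_neg this, add_zero]
  · intro h0
    have := congrFun h0 e0
    simp at this

end Cfsg.Agent.H206.ZPsl
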